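import Groth.Agent.Desc59.DDIndQAEff
import Groth.Agent.S1402
import Groth.Agent.Unr55.UnrQF
import Groth.Agent.S0079
import Groth.Agent.S0081
import Mathlib.AlgebraicGeometry.Morphisms.LocalFlatDescent

/-!
# Effective descent for étale, separated, quasi-compact schemes
-/

set_option autoImplicit false
universe u

open CategoryTheory Limits AlgebraicGeometry MorphismProperty

namespace Groth.Agent.Eff84

variable {S' S : Scheme.{u}}

/-- Fpqc descent for étale, separated, quasi-compact schemes. -/
theorem effective_of_fpqc (g : S' ⟶ S) [Flat g] [Surjective g] [QuasiCompact g]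
    (D : Desc.SchDD g) [QuasiCompact D.obj.hom] [IsSeparated D.obj.hom] [Etale D.obj.hom] :
    ∃ U : Over S, QuasiCompact U.hom ∧ IsSeparated U.hom ∧ Etale U.hom ∧
      Nonempty ((Desc.toDD g).obj U ≅ D) := by
  have := Unr55.locallyQuasiFinite_of_formallyUnramified D.obj.hom
  obtain ⟨U, ⟨e⟩⟩ := Desc59.effective_of_isIndQuasiAffineHom g D (S1402.result D.obj.hom)
  let eo : pullback g U.hom ≅ D.obj.left :=
    ⟨e.hom.hom.left, e.inv.hom.left,
      congrArg (fun k : (Desc.toDD g).obj U ⟶ (Desc.toDD g).obj U => k.hom.left) e.hom_inv_id,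
      congrArg (fun k : D ⟶ D => k.hom.left) e.inv_hom_id⟩
  have hw : eo.hom ≫ D.obj.hom = pullback.fst g U.hom := Over.w e.hom.hom
  have hg : (@Surjective ⊓ @Flat ⊓ @QuasiCompact : MorphismProperty Scheme.{u}) g :=
    ⟨⟨inferInstance, inferInstance⟩, inferInstance⟩
  have key : ∀ (P : MorphismProperty Scheme.{u}) [P.RespectsIso]
      [P.DescendsAlong (@Surjective ⊓ @Flat ⊓ @QuasiCompact)], P D.obj.hom → P U.hom := fun P _ _ h =>
    P.of_pullback_fst_of_descendsAlong hg (hw ▸ (@MorphismProperty.cancel_left_of_respectsIso _ _ P _ _ _ _ eo.hom D.obj.hom eo.isIso_hom).mpr h)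
  have := S0079.result.{u}
  have := S0081.result.{u}
  exact ⟨U, key @QuasiCompact inferInstance, key @IsSeparated inferInstance, key @Etale inferInstance, ⟨e⟩⟩

end Groth.Agent.Eff84
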