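import Groth.Agent.Eff84.Local
import Groth.Agent.Desc59.DDSigma

/-!
# Representing objects over a disjoint union
-/

set_option autoImplicit false
set_option backward.isDefEq.respectTransparency false
universe u

open CategoryTheory Limits AlgebraicGeometry

namespace Groth.Agent.Eff84

open Desc Groth.Agent.Desc59

variable {S' S : Scheme.{u}} {g : S' ⟶ S} {D : SchDD g}

/-- Representing objects on the components give one on the disjoint union. -/
theorem exists_isRep_sigma {ι : Type u} {X : ι → Scheme.{u}} (f : ∀ i, X i ⟶ S) (U : ∀ i, Over (X i))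
    (w : ∀ i, pullback ((U i).hom ≫ f i) g ⟶ D.obj.left) (R : ∀ i, IsRep D (f i) (U i) (w i)) :
    ∃ w', IsRep D (Sigma.desc f) (Over.mk (Limits.Sigma.map fun i => (U i).hom)) w' := by
  let q : ∀ i, (U i).left ⟶ X i := fun i => (U i).hom
  let Q : (∐ fun i => (U i).left) ⟶ ∐ X := Limits.Sigma.map q
  let P := Sigma.desc f
  let y₁ := Q ≫ P
  have hQ : ∀ i, Sigma.ι (fun i => (U i).left) i ≫ Q = q i ≫ Sigma.ι X i := fun i => Limits.Sigma.ι_map q i
  have hP : ∀ i, Sigma.ι X i ≫ P = f i := fun i => Sigma.ι_desc f i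
  have hcond : ∀ (i : ι) {T : Scheme.{u}} (a : T ⟶ pullback y₁ g) (t : T ⟶ (U i).left),
      a ≫ pullback.fst y₁ g = t ≫ Sigma.ι (fun i => (U i).left) i →
      t ≫ (U i).hom ≫ f i = (a ≫ pullback.snd y₁ g) ≫ g := fun i T a t h => by
    rw [Category.assoc, ← pullback.condition, reassoc_of% h]
    simp only [y₁, reassoc_of% (hQ i), hP, q]
  let x₁ := pullback.fst y₁ g ≫ Q
  have hu : ∀ i, (pullback.fst x₁ (Sigma.ι X i) ≫ pullback.fst y₁ g) ≫ Q =
      pullback.snd x₁ (Sigma.ι X i) ≫ Sigma.ι X i := fun i => by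
    rw [Category.assoc]; exact pullback.condition
  let piece : ∀ i, pullback x₁ (Sigma.ι X i) ⟶ D.obj.left := fun i =>
    pullback.lift ((Sigma'.isPullback_map q i).lift _ _ (hu i))
      (pullback.fst x₁ (Sigma.ι X i) ≫ pullback.snd y₁ g)
      (hcond i _ _ ((Sigma'.isPullback_map q i).lift_fst _ _ _).symm) ≫ w i
  obtain ⟨W, hW⟩ := Sigma'.exists_glue x₁ piece
  have hwι : ∀ (i : ι) {T : Scheme.{u}} (a : T ⟶ pullback y₁ g) (t : T ⟶ (U i).left)
      (h : a ≫ pullback.fst y₁ g = t ≫ Sigma.ι (fun i => (U i).left) i),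
      a ≫ W = pullback.lift t (a ≫ pullback.snd y₁ g) (hcond i a t h) ≫ w i := by
    intro i T a t h
    let m : T ⟶ pullback x₁ (Sigma.ι X i) := pullback.lift a (t ≫ q i) (by
      simp only [x₁, reassoc_of% h, hQ, Category.assoc])
    have hm : m ≫ (Sigma'.isPullback_map q i).lift _ _ (hu i) = t := by
      apply (Sigma'.isPullback_map q i).hom_ext
      · simp only [Category.assoc, IsPullback.lift_fst, m, pullback.lift_fst_assoc, h]
      · simp only [Category.assoc, IsPullback.lift_snd, m, pullback.lift_snd]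
    have h1 := congrArg (fun k => m ≫ k) (hW i)
    simp only [m, pullback.lift_fst_assoc] at h1
    rw [h1]
    refine (Category.assoc _ _ _).symm.trans (congrArg (· ≫ w i) ?_)
    apply pullback.hom_ext
    · simp only [Category.assoc, pullback.lift_fst]
      exact hm
    · simp only [Category.assoc, pullback.lift_snd, pullback.lift_fst_assoc]
  refine ⟨W, ⟨?_, ?_⟩, ?_⟩
  · show W ≫ D.obj.hom = pullback.snd y₁ g
    refine Sigma'.hom_ext x₁ fun i {T} a x' h => ?_
    have h' : (a ≫ pullback.fst y₁ g) ≫ Q = x' ≫ Sigma.ι X i := by rw [Category.assoc]; exact h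
    rw [← Category.assoc, hwι i a _ ((Sigma'.isPullback_map q i).lift_fst _ _ h').symm, Category.assoc,
      (R i).isInvSec.hom, pullback.lift_snd]
  · intro T (a : T ⟶ pullback y₁ g) (b : T ⟶ pullback y₁ g) (e : a ≫ pullback.fst y₁ g = b ≫ pullback.fst y₁ g) hh
    change (b ≫ pullback.snd y₁ g) ≫ g = (a ≫ W) ≫ D.obj.hom ≫ g at hh
    show pullback.lift (b ≫ pullback.snd y₁ g) (a ≫ W) hh ≫ θ D = b ≫ W
    refine Sigma'.hom_ext (a ≫ x₁) fun i {T'} c x' h => ?_
    have h' : (c ≫ a ≫ pullback.fst y₁ g) ≫ Q = x' ≫ Sigma.ι X i := by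
      simpa only [Category.assoc] using h
    let t := (Sigma'.isPullback_map q i).lift _ _ h'
    have ha : (c ≫ a) ≫ pullback.fst y₁ g = t ≫ Sigma.ι (fun i => (U i).left) i := by
      rw [Category.assoc]; exact ((Sigma'.isPullback_map q i).lift_fst _ _ h').symm
    have hb : (c ≫ b) ≫ pullback.fst y₁ g = t ≫ Sigma.ι (fun i => (U i).left) i := by
      rw [Category.assoc, ← e, ← Category.assoc]; exact ha
    have hA := hwι i (c ≫ a) t ha
    have hB := hwι i (c ≫ b) t hb
    have hc : (pullback.lift t ((c ≫ b) ≫ pullback.snd y₁ g) (hcond i _ _ hb) ≫ pullback.snd _ g) ≫ g =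
        (pullback.lift t ((c ≫ a) ≫ pullback.snd y₁ g) (hcond i _ _ ha) ≫ w i) ≫ D.obj.hom ≫ g := by
      rw [← hA, pullback.lift_snd]
      simpa only [Category.assoc] using congrArg (c ≫ ·) hh
    rw [← Category.assoc c b, hB, ← (R i).isInvSec.inv _ _ (by simp only [pullback.lift_fst]) hc]
    refine (comp_lift_θ D _ _ _ _).trans (congrArg (· ≫ θ D) ?_)
    apply pullback.hom_ext
    · simp only [pullback.lift_fst, pullback.lift_snd, Category.assoc]
    · simp only [pullback.lift_snd]
      rw [← Category.assoc, hA]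
  · intro T x y hy w' hw'
    have hyi : ∀ i, pullback.snd x (Sigma.ι X i) ≫ f i = pullback.fst x (Sigma.ι X i) ≫ y := fun i => by
      rw [← hP i, ← hy, pullback.condition_assoc]
    choose v hv hvu using fun i =>
      (R i).existsUnique (pullback.snd x (Sigma.ι X i)) (hyi i) _ (hw'.pull (pullback.fst x (Sigma.ι X i)) rfl)
    obtain ⟨V, hV⟩ := Sigma'.exists_glue x fun i => v i ≫ Sigma.ι (fun i => (U i).left) i
    have hVQ : V ≫ Q = x := by
      refine Sigma'.hom_ext x fun i {T'} a x' h => ?_
      have h1 := congrArg (fun k => pullback.lift a x' h ≫ k ≫ Q) (hV i)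
      simp only [Category.assoc, pullback.lift_fst_assoc, hQ] at h1
      rw [h1]
      erw [reassoc_of% (hv i).choose]
      rw [pullback.lift_snd_assoc, h]
    refine ⟨V, ⟨hVQ, ?_⟩, ?_⟩
    · show pmap V _ ≫ W = w'
      refine Sigma'.hom_ext (pullback.fst y g ≫ x) fun i {T'} a x' h => ?_
      let m : T' ⟶ pullback x (Sigma.ι X i) := pullback.lift (a ≫ pullback.fst y g) x'
        (by rw [Category.assoc]; exact h)
      have hm : (a ≫ pullback.fst y g) ≫ V = (m ≫ v i) ≫ Sigma.ι (fun i => (U i).left) i := by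
        have h1 := congrArg (fun k => m ≫ k) (hV i)
        simp only [m, pullback.lift_fst_assoc] at h1
        simpa only [Category.assoc] using h1
      have hy' : V ≫ y₁ = y := by rw [← hy, ← hVQ, Category.assoc]
      rw [← Category.assoc, hwι i (a ≫ pmap V hy') (m ≫ v i) (by rw [Category.assoc, pmap_fst, ← Category.assoc, hm])]
      let n : T' ⟶ pullback (pullback.fst x (Sigma.ι X i) ≫ y) g := pullback.lift m (a ≫ pullback.snd y g) (by
        simp only [m, pullback.lift_fst_assoc, Category.assoc, pullback.condition])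
      have h2 := congrArg (fun k => n ≫ k) (hv i).choose_spec
      have hn : n ≫ pmap (pullback.fst x (Sigma.ι X i)) (rfl : pullback.fst x (Sigma.ι X i) ≫ y = _) = a := by
        apply pullback.hom_ext
        · simp only [Category.assoc, pmap_fst, n, m, pullback.lift_fst_assoc, pullback.lift_fst]
        · simp only [Category.assoc, pmap_snd, n, pullback.lift_snd]
      simp only [reassoc_of% hn] at h2
      rw [← h2]
      refine Eq.trans (congrArg (· ≫ w i) ?_) (Category.assoc _ _ _)
      apply pullback.hom_ext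
      · simp only [Category.assoc, pmap_fst, n, pullback.lift_fst_assoc, pullback.lift_fst]
      · simp only [Category.assoc, pmap_snd, n, pullback.lift_snd]
    · rintro V' ⟨hV'Q, hV'w⟩
      refine Sigma'.hom_ext x fun i {T'} a x' h => ?_
      have h' : (a ≫ V') ≫ Q = x' ≫ Sigma.ι X i := by
        rw [Category.assoc]; exact (congrArg (a ≫ ·) hV'Q).trans h
      let t := (Sigma'.isPullback_map q i).lift _ _ h'
      have ht₁ : t ≫ Sigma.ι (fun i => (U i).left) i = a ≫ V' := (Sigma'.isPullback_map q i).lift_fst _ _ _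
      have ht₂ : t ≫ q i = x' := (Sigma'.isPullback_map q i).lift_snd _ _ _
      let m : T' ⟶ pullback x (Sigma.ι X i) := pullback.lift a x' h
      have hm : a ≫ V = (m ≫ v i) ≫ Sigma.ι (fun i => (U i).left) i := by
        have h1 := congrArg (fun k => m ≫ k) (hV i)
        simp only [m, pullback.lift_fst_assoc] at h1
        simpa only [Category.assoc] using h1
      rw [hm, ← ht₁]
      refine congrArg (· ≫ _) ?_
      have hmv : (m ≫ v i) ≫ (U i).hom = x' := by
        rw [Category.assoc, (hv i).choose]; exact pullback.lift_snd _ _ _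
      have hxy : x' ≫ f i = a ≫ y := by rw [← hP i, ← hy, ← Category.assoc, ← h, Category.assoc]
      have et : t ≫ (U i).hom ≫ f i = a ≫ y := by rw [← Category.assoc, show t ≫ (U i).hom = x' from ht₂, hxy]
      have em : (m ≫ v i) ≫ (U i).hom ≫ f i = a ≫ y := by rw [← Category.assoc, hmv, hxy]
      refine (R i).ext (ht₂.trans hmv.symm) et em ?_
      have hy' : V' ≫ y₁ = y := by rw [← hy, ← hV'Q]; exact (Category.assoc _ _ _).symm
      have k1 : pmap t et ≫ w i = pmap (g := g) a rfl ≫ w' := by
        rw [← hV'w]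
        refine Eq.trans ?_ (Category.assoc _ _ _)
        rw [hwι i (pmap (g := g) a rfl ≫ pmap V' hy') (pullback.fst _ g ≫ t) (by
          rw [Category.assoc, pmap_fst, pmap_fst_assoc, Category.assoc, ht₁])]
        refine congrArg (· ≫ w i) ?_
        apply pullback.hom_ext <;> simp
      have k2 : pmap (m ≫ v i) em ≫ w i = pmap (g := g) a rfl ≫ w' := by
        have hm' : m ≫ pullback.fst x (Sigma.ι X i) ≫ y = a ≫ y := pullback.lift_fst_assoc _ _ _ _
        have h2 := congrArg (fun k => pmap (g := g) m hm' ≫ k) (hv i).choose_spec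
        simp only [← Category.assoc, pmap_pmap] at h2
        exact h2.trans (congrArg (· ≫ w') (pmap_congr (pullback.lift_fst _ _ _) _))
      exact k1.trans k2.symm

end Groth.Agent.Eff84
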