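import Groth.Agent.Eff84.Stalk
import Groth.Agent.S5123
import Groth.Agent.Eff84.Basic

/-!
# Effectivity at a local ring follows from effectivity over a faithfully flat extension
-/

set_option autoImplicit false
set_option backward.isDefEq.respectTransparency false
universe u

open CategoryTheory Limits AlgebraicGeometry MorphismProperty

namespace Groth.Agent.Eff84

open Desc Groth.Agent.Desc59

/-- Universally closed morphisms descend along universally submersive morphisms. -/
theorem descendsAlong_universallyClosed :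
    DescendsAlong @UniversallyClosed SGA1.UnivSubmersive.{u} := by
  have : (SGA1.UnivSubmersive.{u}).IsStableUnderBaseChange := universally_isStableUnderBaseChange _
  refine DescendsAlong.mk' fun {X Y Z f g} _ hf hfst => ⟨universally_mk' _ _ fun {T} k _ s hs => ?_⟩
  let p := pullback.fst (pullback.fst f k) (pullback.fst f g)
  let r : pullback (pullback.fst f k) (pullback.fst f g) ⟶ pullback k g :=
    pullback.map _ _ _ _ (pullback.snd _ _) (pullback.snd _ _) f (pullback.condition ..) (pullback.condition ..)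
  have hcl : IsClosed ((pullback.snd f k).base ⁻¹' ((pullback.fst k g).base '' s)) := by
    rw [← Scheme.image_preimage_eq_of_isPullback (isPullback_map_snd_snd ..)]
    have : UniversallyClosed (pullback.fst f g) := hfst
    exact p.isClosedMap _ (hs.preimage r.continuous)
  have hq : Topology.IsQuotientMap (pullback.snd f k).base :=
    universally_le _ _ (MorphismProperty.pullback_snd (P := SGA1.UnivSubmersive) f k hf)
  rwa [hq.isClosed_preimage] at hcl

/-- Separatedness descends along universally submersive morphisms. -/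
theorem isSeparated_of_univSubmersive {X Y X' Y' : Scheme.{u}} {a : X' ⟶ X} {f' : X' ⟶ Y'} {f : X ⟶ Y}
    {g : Y' ⟶ Y} (hg : SGA1.UnivSubmersive g) (h : IsPullback a f' f g) [IsSeparated f'] : IsSeparated f := by
  have := descendsAlong_universallyClosed.{u}
  have : (SGA1.UnivSubmersive.{u}).IsStableUnderBaseChange := universally_isStableUnderBaseChange _
  have h1 : UniversallyClosed (pullback.diagonal f) :=
    MorphismProperty.of_isPullback_of_descendsAlong (P := diagonal @UniversallyClosed) h.flip hg
      (inferInstanceAs (UniversallyClosed (pullback.diagonal f')))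
  exact ⟨.of_isPreimmersion _ (pullback.diagonal f).isClosedMap.isClosed_range⟩

variable {S' S S₁ S₂ : Scheme.{u}} {g : S' ⟶ S} {D : SchDD g} {p : S₁ ⟶ S}

theorem effAt_pullDD (hsq : pullback.fst g p ≫ g = pullback.snd g p ≫ p) (r : S₂ ⟶ S₁)
    (h : EffAt D (r ≫ p)) : EffAt (pullDD hsq D) r := by
  obtain ⟨U, π, het, h⟩ := h
  let E := pullDD hsq D
  let g₁ := pullback.snd g p
  let a := pullback.fst D.obj.hom (pullback.fst g p)
  let b := pullback.snd D.obj.hom (pullback.fst g p)
  have hab : a ≫ D.obj.hom = b ≫ pullback.fst g p := pullback.condition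
  have hE : IsPullback a (b ≫ g₁) (dY D) p :=
    (IsPullback.of_hasPullback D.obj.hom (pullback.fst g p)).paste_vert (IsPullback.of_hasPullback g p)
  have hEr : IsPullback (pullback.fst (dY E) r ≫ a) (pullback.snd (dY E) r) (dY D) (r ≫ p) :=
    (IsPullback.of_hasPullback (dY E) r).paste_horiz hE
  let e := hEr.isoPullback
  have he1 : e.hom ≫ pullback.fst _ _ = pullback.fst (dY E) r ≫ a := hEr.isoPullback_hom_fst
  have he2 : e.hom ≫ pullback.snd _ _ = pullback.snd (dY E) r := hEr.isoPullback_hom_snd
  have hw : (e.hom ≫ π) ≫ U.hom = pullback.snd (dY E) r := by rw [Category.assoc, h.w, he2]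
  refine ⟨U, e.hom ≫ π, het, hw, ?_, ?_⟩
  · have hbig : IsPullback (e.hom ≫ π) ((pullback.fst (dY E) r ≫ E.obj.hom) ≫ pullback.fst g p)
        ((U.hom ≫ r) ≫ p) g := by
      rw [Category.assoc U.hom]
      refine IsPullback.of_iso h.cart e.symm (Iso.refl _) (Iso.refl _) (Iso.refl _) ?_ ?_ ?_ ?_
      · simp
      · simp only [Iso.refl_hom, Category.comp_id, Iso.symm_hom]
        rw [Category.assoc, show E.obj.hom ≫ pullback.fst g p = a ≫ D.obj.hom from hab.symm,
          ← reassoc_of% he1, e.inv_hom_id_assoc]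
      · simp
      · simp
    refine IsPullback.of_bot hbig ?_ (IsPullback.of_hasPullback g p).flip
    rw [← Category.assoc (e.hom ≫ π), hw, Category.assoc]
    exact pullback.condition.symm
  · let k : pullback (rY E) r ⟶ pullback (rY D) (r ≫ p) :=
      pullback.lift (pullback.fst (rY E) r ≫ srcPull hsq D) (pullback.snd (rY E) r) (by
        rw [Category.assoc, srcPull_cond hsq, ← pullback.condition_assoc])
    have h1 : bcS (θ E) (θ_dY E) r ≫ e.hom = k ≫ bcS (θ D) (θ_dY D) (r ≫ p) := by
      apply pullback.hom_ext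
      · simp only [Category.assoc, he1, pullback.lift_fst, pullback.lift_fst_assoc, k]
        exact congrArg (pullback.fst (rY E) r ≫ ·) (θ_pullDD_fst hsq D)
      · simp only [Category.assoc, he2, pullback.lift_snd, pullback.lift_snd_assoc, k, Category.comp_id]
    have h2 : bcS (pullback.snd g₁ (dY E)) rfl r ≫ e.hom = k ≫ bcS (pullback.snd g (dY D)) rfl (r ≫ p) := by
      apply pullback.hom_ext
      · simp only [Category.assoc, he1, pullback.lift_fst, pullback.lift_fst_assoc, k]
        exact congrArg (pullback.fst (rY E) r ≫ ·) (srcPull_snd hsq D).symm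
      · simp only [Category.assoc, he2, pullback.lift_snd, pullback.lift_snd_assoc, k, Category.comp_id]; rfl
    rw [reassoc_of% h1, reassoc_of% h2, h.inv]

/-- Fpqc descent of effectivity in terms of quotients over the base change. -/
theorem effAt_of_fpqc (hg : SGA1.UnivSubmersive g) [QuasiCompact g] [Etale D.obj.hom] [IsSeparated D.obj.hom]
    [QuasiCompact D.obj.hom] (r : S₂ ⟶ S₁) [Flat r] [Surjective r] [QuasiCompact r]
    (h : EffAt D (r ≫ p)) : EffAt D p := by
  have : (SGA1.UnivSubmersive.{u}).IsStableUnderBaseChange := universally_isStableUnderBaseChange _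
  let hsq : pullback.fst g p ≫ g = pullback.snd g p ≫ p := pullback.condition
  let g₁ := pullback.snd g p
  let hsq₁ : pullback.fst g₁ r ≫ g₁ = pullback.snd g₁ r ≫ r := pullback.condition
  let E := pullDD hsq D
  have hg₁ : SGA1.UnivSubmersive g₁ := MorphismProperty.pullback_snd g p hg
  have hg₂ : SGA1.UnivSubmersive (pullback.snd g₁ r) := MorphismProperty.pullback_snd g₁ r hg₁
  obtain ⟨U, het, hiso⟩ := (effAt_iff (D := E) (p := r) hsq₁).mp (effAt_pullDD hsq r h)
  obtain ⟨U', π, hπ, rfl⟩ := exists_isQuot_of_iso hiso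
  have : Surjective π := MorphismProperty.of_isPullback (P := @Surjective) hπ.isPullback.flip
    ⟨(universally_le _ _ hg₂).surjective⟩
  have hEq : QuasiCompact (pullDD hsq₁ E).obj.hom :=
    inferInstanceAs (QuasiCompact (pullback.snd (pullback.snd D.obj.hom (pullback.fst g p)) (pullback.fst g₁ r)))
  have : IsSeparated (pullDD hsq₁ E).obj.hom :=
    inferInstanceAs (IsSeparated (pullback.snd (pullback.snd D.obj.hom (pullback.fst g p)) (pullback.fst g₁ r)))
  have : QuasiCompact (π ≫ U'.hom) := by
    rw [hπ.isPullback.w]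
    exact @MorphismProperty.comp_mem _ _ @QuasiCompact _ _ _ _ (pullDD hsq₁ E).obj.hom (pullback.snd g₁ r) hEq
      (inferInstanceAs (QuasiCompact (pullback.snd (pullback.snd g p) r)))
  have hqc : QuasiCompact U'.hom := ⟨fun W hW hW' => by
    rw [← Set.image_preimage_eq (U'.hom ⁻¹' W) π.surjective]
    exact ((QuasiCompact.isCompact_preimage (f := π ≫ U'.hom) W hW hW').image π.continuous)⟩
  have hsep : IsSeparated U'.hom := isSeparated_of_univSubmersive hg₂ hπ.isPullback
  have : Etale E.obj.hom := inferInstanceAs (Etale (pullback.snd D.obj.hom (pullback.fst g p)))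
  obtain ⟨U₁, het₁, -, -, hiso₁⟩ := (exists_effective_iff_fpqc (D := E) hg₁ r hsq₁).mpr
    ⟨U', het, hsep, hqc, hπ.nonempty_iso⟩
  exact (effAt_iff hsq).mpr ⟨U₁, het₁, hiso₁⟩

/-- A faithfully flat ring map gives an fpqc cover of spectra. -/
theorem fpqc_SpecMap (R B : Type u) [CommRing R] [CommRing B] [Algebra R B] [Module.FaithfullyFlat R B] :
    Flat (Spec.map (CommRingCat.ofHom (algebraMap R B))) ∧
      Surjective (Spec.map (CommRingCat.ofHom (algebraMap R B))) :=
  ⟨(HasRingHomProperty.Spec_iff (P := @Flat)).mpr (RingHom.flat_algebraMap_iff.mpr inferInstance),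
    ⟨PrimeSpectrum.comap_surjective_of_faithfullyFlat (A := R) (B := B)⟩⟩

/-- Effectivity over a scheme from effectivity over all local rings. -/
theorem exists_fam_of_forall_stalk (D : SchDDFam (fun _ : PUnit.{1} => g)) (hg : SGA1.UnivSubmersive g)
    [LocallyOfFinitePresentation g] [QuasiCompact g] [QuasiSeparated g] [Etale (D.obj PUnit.unit).hom]
    [QuasiCompact (D.obj PUnit.unit).hom] [QuasiSeparated (D.obj PUnit.unit).hom]
    (h : ∀ a : S, EffAt ((SchDDFam.toSchDD g).obj D) (S.fromSpecStalk a)) :
    ∃ U : Over S, Etale U.hom ∧ Nonempty ((toDDFam (fun _ : PUnit.{1} => g)).obj U ≅ D) := by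
  let D' := (SchDDFam.toSchDD g).obj D
  have : Etale D'.obj.hom := ‹_›
  have : QuasiCompact D'.obj.hom := ‹_›
  have : QuasiSeparated D'.obj.hom := ‹_›
  choose W ha hW using fun a => exists_effAt_nhd hg a (h a)
  exact (S5123.result g hg D W (eq_top_iff.mpr fun a _ => TopologicalSpace.Opens.mem_iSup.mpr ⟨a, ha a⟩)).mpr
    fun a => (exists_fam_iff_effAt D (W a).ι).mpr (hW a)

theorem effAt_of_exists_fam (D : SchDDFam (fun _ : PUnit.{1} => g))
    (h : ∃ U : Over S, Etale U.hom ∧ Nonempty ((toDDFam (fun _ : PUnit.{1} => g)).obj U ≅ D)) (q : S₁ ⟶ S) :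
    EffAt ((SchDDFam.toSchDD g).obj D) q := by
  obtain ⟨U, het, hiso⟩ := h
  obtain ⟨U', π, hπ, rfl⟩ := exists_isQuot_of_iso ((nonempty_fam_iff U D).mp hiso)
  obtain ⟨π₁, hπ₁⟩ := exists_isQuot_pull q pullback.condition hπ
  exact (effAt_iff pullback.condition).mpr
    ⟨Over.mk (pullback.snd U'.hom q), inferInstanceAs (Etale (pullback.snd U'.hom q)), hπ₁.nonempty_iso⟩

end Groth.Agent.Eff84
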