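import Groth.Agent.Eff84.Rep

/-!
# Representability of invariant sections descends along effective-descent morphisms
-/

set_option autoImplicit false
set_option backward.isDefEq.respectTransparency false
universe u

open CategoryTheory Limits AlgebraicGeometry

namespace Groth.Agent.Eff84

open Desc Groth.Agent.Desc59

variable {S' S S₁ : Scheme.{u}} {g : S' ⟶ S} {D : SchDD g} {p : S₁ ⟶ S}

section
variable {U₁ : Over S₁} {w : pullback (U₁.hom ≫ p) g ⟶ D.obj.left} (R : IsRep D p U₁ w)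

/-- The gluing bijection on a scheme representing invariant sections. -/
noncomputable def repFun {T : Scheme.{u}} (x₀ x₁ : T ⟶ S₁) (h : x₀ ≫ p = x₁ ≫ p) (v : Lifts U₁ x₀) :
    Lifts U₁ x₁ :=
  let H := R.existsUnique x₁ h.symm _ (R.isInvSec.pull v.1 (by rw [← Category.assoc, v.2]))
  ⟨H.exists.choose, H.exists.choose_spec.choose⟩

theorem repFun_spec {T : Scheme.{u}} (x₀ x₁ : T ⟶ S₁) (h : x₀ ≫ p = x₁ ≫ p) (v : Lifts U₁ x₀) :
    pmap (y' := x₀ ≫ p) (repFun R x₀ x₁ h v).1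
        (by rw [← Category.assoc, (repFun R x₀ x₁ h v).2, h]) ≫ w =
      pmap (y' := x₀ ≫ p) v.1 (by rw [← Category.assoc, v.2]) ≫ w :=
  (R.existsUnique x₁ h.symm _ (R.isInvSec.pull v.1 (by rw [← Category.assoc, v.2]))).exists.choose_spec.choose_spec

theorem repFun_eq {T : Scheme.{u}} (x₀ x₁ : T ⟶ S₁) (h : x₀ ≫ p = x₁ ≫ p) (v : Lifts U₁ x₀) (v' : Lifts U₁ x₁)
    (e : pmap (y' := x₀ ≫ p) v'.1 (by rw [← Category.assoc, v'.2, h]) ≫ w =
      pmap (y' := x₀ ≫ p) v.1 (by rw [← Category.assoc, v.2]) ≫ w) :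
    repFun R x₀ x₁ h v = v' :=
  Subtype.ext (R.ext ((repFun R x₀ x₁ h v).2.trans v'.2.symm)
    (by rw [← Category.assoc, (repFun R x₀ x₁ h v).2, h]) (by rw [← Category.assoc, v'.2, h])
    ((repFun_spec R x₀ x₁ h v).trans e.symm))

theorem pmap_base_congr {T T' : Scheme.{u}} {y : T ⟶ S} {y' y'' : T' ⟶ S} (e : y' = y'') (t t' : T' ⟶ T)
    (ht : t ≫ y = y') (ht' : t' ≫ y = y') {Z : Scheme.{u}} (w : pullback y g ⟶ Z) :
    pmap t ht ≫ w = pmap t' ht' ≫ w ↔ pmap t (ht.trans e) ≫ w = pmap t' (ht'.trans e) ≫ w := by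
  subst e; rfl

theorem repFun_comp {T : Scheme.{u}} (x₀ x₁ x₂ : T ⟶ S₁) (h₀₁ : x₀ ≫ p = x₁ ≫ p) (h₁₂ : x₁ ≫ p = x₂ ≫ p)
    (v : Lifts U₁ x₀) :
    repFun R x₁ x₂ h₁₂ (repFun R x₀ x₁ h₀₁ v) = repFun R x₀ x₂ (h₀₁.trans h₁₂) v := by
  refine (repFun_eq R _ _ _ _ _ ?_)
  exact (pmap_base_congr h₀₁ _ _ (by rw [← Category.assoc, (repFun R x₀ x₂ (h₀₁.trans h₁₂) v).2, ← h₁₂, ← h₀₁])
    (by rw [← Category.assoc, (repFun R x₀ x₁ h₀₁ v).2, ← h₀₁]) w).mp ((repFun_spec R x₀ x₂ (h₀₁.trans h₁₂) v).trans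
    (repFun_spec R x₀ x₁ h₀₁ v).symm)

theorem repFun_self {T : Scheme.{u}} (x : T ⟶ S₁) (v : Lifts U₁ x) : repFun R x x rfl v = v :=
  repFun_eq R x x rfl v v rfl

/-- The descent datum relative to `p` on a scheme representing invariant sections. -/
noncomputable def repDD : SchDD p where
  obj := U₁
  φ _ x₀ x₁ h :=
    { toFun := repFun R x₀ x₁ h
      invFun := repFun R x₁ x₀ h.symm
      left_inv := fun v => (repFun_comp R x₀ x₁ x₀ h h.symm v).trans (repFun_self R x₀ v)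
      right_inv := fun v => (repFun_comp R x₁ x₀ x₁ h.symm h v).trans (repFun_self R x₁ v) }
  φ_natural T T' t x₀ x₁ h h' v v' hv' := by
    show (repFun R (t ≫ x₀) (t ≫ x₁) h' v').1 = _
    have hmem : (t ≫ (repFun R x₀ x₁ h v).1) ≫ U₁.hom = t ≫ x₁ := by
      rw [Category.assoc, (repFun R x₀ x₁ h v).2]
    refine congrArg Subtype.val (repFun_eq R _ _ h' v' ⟨_, hmem⟩ ?_)
    have hb : t ≫ x₀ ≫ p = (t ≫ x₀) ≫ p := (Category.assoc _ _ _).symm
    have hs := congrArg (fun k => pmap (g := g) t hb ≫ k) (repFun_spec R x₀ x₁ h v)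
    simp only [← Category.assoc, pmap_pmap] at hs
    refine hs.trans (congrArg (· ≫ w) (pmap_congr hv'.symm _))
  φ_self T x v := repFun_self R x v
  φ_comp T x₀ x₁ x₂ h₀₁ h₁₂ v := repFun_comp R x₀ x₁ x₂ h₀₁ h₁₂ v

/-- Two points with the same image in the quotient have the same invariant section. -/
theorem section_eq_of_quot {U : Over S} {ρ : U₁.left ⟶ U.left} (hρ : IsQuot (repDD R) U ρ)
    {T : Scheme.{u}} (a b : T ⟶ U₁.left) (e : a ≫ ρ = b ≫ ρ) {y : T ⟶ S} (ha : a ≫ U₁.hom ≫ p = y)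
    (hb : b ≫ U₁.hom ≫ p = y) : pmap (g := g) a ha ≫ w = pmap b hb ≫ w := by
  have hab : (a ≫ U₁.hom) ≫ p = (b ≫ U₁.hom) ≫ p := by rw [Category.assoc, Category.assoc, ha, hb]
  have key := hρ.lift_θ_eq a b e
  have h1 : (repFun R (a ≫ U₁.hom) (b ≫ U₁.hom) hab ⟨a, rfl⟩).1 = b :=
    (φ_eq (repDD R) (a ≫ U₁.hom) (b ≫ U₁.hom) hab ⟨a, rfl⟩).trans key
  have hs := repFun_spec R (a ≫ U₁.hom) (b ≫ U₁.hom) hab ⟨a, rfl⟩
  rw [pmap_congr h1] at hs
  exact ((pmap_base_congr (show (a ≫ U₁.hom) ≫ p = y by rw [Category.assoc, ha]) _ _ _ _ w).mp hs).symm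

variable [Flat p] [Surjective p] [IsFpqcMor p]

/-- The quotient of the representing scheme represents invariant sections over the base. -/
theorem exists_isRep_of_quot {U : Over S} {ρ : U₁.left ⟶ U.left} (hρ : IsQuot (repDD R) U ρ) :
    ∃ wU, IsRep D (𝟙 S) U wU := by
  have hρw : ρ ≫ U.hom = U₁.hom ≫ p := hρ.isPullback.w
  have := hρ.flat
  have := hρ.surjective
  have := hρ.isFpqcMor
  let yU := U.hom ≫ 𝟙 S
  have hρy : ρ ≫ yU = U₁.hom ≫ p := by
    show ρ ≫ U.hom ≫ 𝟙 S = _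
    rw [Category.comp_id]; exact hρw
  let c : pullback (U₁.hom ≫ p) g ⟶ pullback yU g := pmap ρ hρy
  have hc : IsPullback c (pullback.fst (U₁.hom ≫ p) g) (pullback.fst yU g) ρ := pmap_comp_rel ρ hρy
  have : Flat c := MorphismProperty.of_isPullback hc.flip inferInstance
  have : Surjective c := MorphismProperty.of_isPullback hc.flip inferInstance
  have : IsFpqcMor c := IsFpqcMor.of_isPullback (f := ρ) hc.flip
  have hcompat : ∀ {Z : Scheme.{u}} (a b : Z ⟶ pullback (U₁.hom ≫ p) g), a ≫ c = b ≫ c → a ≫ w = b ≫ w := by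
    intro Z a b e
    have e1 : a ≫ pullback.fst _ g ≫ ρ = b ≫ pullback.fst _ g ≫ ρ := by
      have := congrArg (· ≫ pullback.fst yU g) e
      simpa [c] using this
    have e2 : a ≫ pullback.snd _ g = b ≫ pullback.snd _ g := by
      have := congrArg (· ≫ pullback.snd yU g) e
      simpa [c] using this
    let y := (a ≫ pullback.snd _ g) ≫ g
    have hA : (a ≫ pullback.fst _ g) ≫ U₁.hom ≫ p = y := by
      rw [Category.assoc, pullback.condition, ← Category.assoc]
    have hB : (b ≫ pullback.fst _ g) ≫ U₁.hom ≫ p = y := by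
      rw [Category.assoc, pullback.condition, ← Category.assoc, ← e2]
    have key := section_eq_of_quot R hρ _ _ (by simpa using e1) hA hB
    let d : Z ⟶ pullback y g := pullback.lift (𝟙 Z) (a ≫ pullback.snd _ g) (Category.id_comp _)
    have hda : d ≫ pmap (a ≫ pullback.fst _ g) hA = a := by
      apply pullback.hom_ext <;> simp [d] <;> exact Category.id_comp _
    have hdb : d ≫ pmap (b ≫ pullback.fst _ g) hB = b := by
      apply pullback.hom_ext <;> simp [d, e2] <;> exact Category.id_comp _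
    have := congrArg (d ≫ ·) key
    simp only [← Category.assoc, hda, hdb] at this
    exact this
  let wU : pullback yU g ⟶ D.obj.left := EffectiveEpi.desc c w hcompat
  have hwU : c ≫ wU = w := EffectiveEpi.fac c w _
  have : Epi c := Flat.epi_of_flat_of_surjective c
  have hinv : IsInvSec D yU wU := by
    refine ⟨?_, ?_⟩
    · rw [← cancel_epi c, reassoc_of% hwU, R.isInvSec.hom, pmap_snd]
    · intro T a b e h
      let r := pullback.fst (a ≫ pullback.fst yU g) ρ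
      let u₁ := pullback.snd (a ≫ pullback.fst yU g) ρ
      have hr : r ≫ a ≫ pullback.fst yU g = u₁ ≫ ρ := pullback.condition
      have : Epi r := Flat.epi_of_flat_of_surjective r
      have hcond : ∀ s : T ⟶ pullback yU g, s ≫ pullback.fst yU g = a ≫ pullback.fst yU g →
          u₁ ≫ U₁.hom ≫ p = (r ≫ s ≫ pullback.snd yU g) ≫ g := fun s hs => by
        refine (congrArg (u₁ ≫ ·) hρw.symm).trans ?_
        rw [← Category.assoc, ← hr]
        simp only [Category.assoc]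
        refine congrArg (r ≫ ·) ?_
        rw [← pullback.condition, reassoc_of% hs]
        exact congrArg (fun k => a ≫ pullback.fst yU g ≫ k) (Category.comp_id U.hom).symm
      let a₁ : pullback (a ≫ pullback.fst yU g) ρ ⟶ pullback (U₁.hom ≫ p) g :=
        pullback.lift u₁ (r ≫ a ≫ pullback.snd yU g) (hcond a rfl)
      let b₁ : pullback (a ≫ pullback.fst yU g) ρ ⟶ pullback (U₁.hom ≫ p) g :=
        pullback.lift u₁ (r ≫ b ≫ pullback.snd yU g) (hcond b e.symm)
      have ha : a₁ ≫ c = r ≫ a := by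
        apply pullback.hom_ext <;> simp [a₁, c, hr]
      have hb : b₁ ≫ c = r ≫ b := by
        apply pullback.hom_ext <;> simp [b₁, c, hr, ← e]
      have haw : r ≫ a ≫ wU = a₁ ≫ w := by rw [← reassoc_of% ha, hwU]
      have hbw : r ≫ b ≫ wU = b₁ ≫ w := by rw [← reassoc_of% hb, hwU]
      have hh : (b₁ ≫ pullback.snd _ g) ≫ g = (a₁ ≫ w) ≫ D.obj.hom ≫ g := by
        rw [pullback.lift_snd, ← haw]
        simpa using congrArg (r ≫ ·) h
      rw [← cancel_epi r, hbw, ← R.isInvSec.inv a₁ b₁ (by simp [a₁, b₁]) hh]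
      refine (comp_lift_θ D _ _ _ _).trans (congrArg (· ≫ θ D) ?_)
      apply pullback.hom_ext
      · simp [b₁]
      · simp only [pullback.lift_snd, haw]
  refine ⟨wU, hinv, ?_⟩
  intro T x y hy w' hw'
  have hxy : x = y := by rw [← hy, Category.comp_id]
  let r := pullback.fst x p
  let x₁ := pullback.snd x p
  have hr : r ≫ y = x₁ ≫ p := by rw [← hxy]; exact pullback.condition
  have : Epi r := Flat.epi_of_flat_of_surjective r
  obtain ⟨v₁, ⟨hv₁, hv₁w⟩, huniq⟩ := R.existsUnique x₁ rfl _ (hw'.pull r hr)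
  have hinvar : ∀ {Z : Scheme.{u}} (a b : Z ⟶ pullback x p), a ≫ r = b ≫ r →
      a ≫ v₁ ≫ ρ = b ≫ v₁ ≫ ρ := by
    intro Z a b e
    have hx : (a ≫ x₁) ≫ p = (b ≫ x₁) ≫ p := by
      rw [Category.assoc, Category.assoc, ← hr, reassoc_of% e]
    let va : Lifts U₁ (a ≫ x₁) := ⟨a ≫ v₁, by rw [Category.assoc, hv₁]⟩
    let vb : Lifts U₁ (b ≫ x₁) := ⟨b ≫ v₁, by rw [Category.assoc, hv₁]⟩
    have hh : repFun R (a ≫ x₁) (b ≫ x₁) hx va = vb := by
      refine repFun_eq R _ _ hx va vb ?_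
      have hA : a ≫ x₁ ≫ p = (a ≫ x₁) ≫ p := (Category.assoc _ _ _).symm
      have hB : b ≫ x₁ ≫ p = (a ≫ x₁) ≫ p := by rw [hx, Category.assoc]
      have k1 := congrArg (fun k => pmap (g := g) b hB ≫ k) hv₁w
      have k2 := congrArg (fun k => pmap (g := g) a hA ≫ k) hv₁w
      simp only [← Category.assoc, pmap_pmap] at k1 k2
      exact k1.trans ((congrArg (· ≫ w') (pmap_congr e.symm _)).trans k2.symm)
    have := hρ.invariant.φ_comp (a ≫ x₁) (b ≫ x₁) hx va
    rw [show ((repDD R).φ (a ≫ x₁) (b ≫ x₁) hx va).1 = b ≫ v₁ from congrArg Subtype.val hh] at this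
    simpa [va] using this.symm
  have : IsFpqcMor r := inferInstance
  let v : T ⟶ U.left := EffectiveEpi.desc r (v₁ ≫ ρ) hinvar
  have hv : r ≫ v = v₁ ≫ ρ := EffectiveEpi.fac r _ _
  have hvU : v ≫ U.hom = x := by
    rw [← cancel_epi r, reassoc_of% hv, hρw, reassoc_of% hv₁]
    exact pullback.condition.symm
  refine ⟨v, ⟨hvU, ?_⟩, ?_⟩
  · have hm : IsPullback (pmap (g := g) r hr) (pullback.fst _ g) (pullback.fst y g) r := pmap_comp_rel r hr
    have : Flat (pmap (g := g) r hr) := MorphismProperty.of_isPullback hm.flip inferInstance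
    have : Surjective (pmap (g := g) r hr) := MorphismProperty.of_isPullback hm.flip inferInstance
    have : Epi (pmap (g := g) r hr) := Flat.epi_of_flat_of_surjective _
    rw [← cancel_epi (pmap (g := g) r hr), ← hv₁w, ← hwU]
    refine (Category.assoc _ _ _).symm.trans ((congrArg (· ≫ wU) ?_).trans (Category.assoc _ _ _))
    refine (pmap_pmap _ _ _ _).trans ((pmap_congr hv _).trans (pmap_pmap _ _ _ _).symm)
  · rintro v' ⟨hv'U, hv'w⟩
    have hl : (r ≫ v') ≫ U.hom = x₁ ≫ p := by rw [Category.assoc, hv'U]; exact pullback.condition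
    let vt := hρ.isPullback.lift (r ≫ v') x₁ hl
    have hvt₁ : vt ≫ ρ = r ≫ v' := hρ.isPullback.lift_fst _ _ _
    have hvt₂ : vt ≫ U₁.hom = x₁ := hρ.isPullback.lift_snd _ _ _
    have hvt : vt = v₁ := by
      refine huniq vt ⟨hvt₂, ?_⟩
      rw [← hwU, ← hv'w]
      refine (Category.assoc _ _ _).symm.trans ((congrArg (· ≫ wU) ?_).trans (Category.assoc _ _ _))
      refine (pmap_pmap _ _ _ _).trans ((pmap_congr hvt₁ _).trans (pmap_pmap _ _ _ _).symm)
    rw [← cancel_epi r, hv, ← hvt, hvt₁]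

end

/-- Effectivity descends along a morphism of effective descent for étale schemes. -/
theorem exists_isQuot_of_pullback [Flat p] [Surjective p] [IsFpqcMor p] (hg : SGA1.UnivSubmersive g)
    (hsq : pullback.fst g p ≫ g = pullback.snd g p ≫ p) {U₁ : Over S₁} [Etale U₁.hom]
    {π₁ : (pullDD hsq D).obj.left ⟶ U₁.left} (hπ : IsQuot (pullDD hsq D) U₁ π₁)
    (heff : ∀ F : SchDD p, F.obj = U₁ → ∃ (U : Over S) (ρ : F.obj.left ⟶ U.left), IsQuot F U ρ) :
    ∃ (U : Over S) (π : D.obj.left ⟶ U.left), IsQuot D U π ∧ ∃ ρ, IsPullback ρ U₁.hom U.hom p := by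
  obtain ⟨w, R⟩ := exists_isRep_of_isQuot hg hsq hπ
  obtain ⟨U, ρ, hρ⟩ := heff (repDD R) rfl
  obtain ⟨wU, RU⟩ := exists_isRep_of_quot R hρ
  obtain ⟨π, hπU⟩ := exists_isQuot_of_isRep RU
  exact ⟨U, π, hπU, ρ, hρ.isPullback⟩

end Groth.Agent.Eff84
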