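import Groth.Agent.CAlg1.Gonflement
import Groth.Agent.CAlg1.Complete
import Groth.Agent.CAlg7.FlatLimit
import Mathlib.RingTheory.AdicCompletion.LocalRing
import Mathlib.FieldTheory.IsAlgClosed.AlgebraicClosure

/-!
# A complete Noetherian faithfully flat extension with algebraically closed residue field
-/

set_option autoImplicit false
universe u

open IsLocalRing TensorProduct

namespace Groth.Agent.Eff84

theorem isAlgClosed_of_ringEquiv {K L : Type u} [Field K] [Field L] [IsAlgClosed K] (e : K ≃+* L) :
    IsAlgClosed L := IsAlgClosed.of_ringEquiv _ _ e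

/-- Every Noetherian local ring has a faithfully flat complete Noetherian local extension with
algebraically closed residue field. -/
theorem exists_complete_algClosed (R : Type u) [CommRing R] [IsLocalRing R] [IsNoetherianRing R] :
    ∃ (B : Type u) (_ : CommRing B) (_ : IsNoetherianRing B) (_ : IsLocalRing B)
      (_ : IsAdicComplete (maximalIdeal B) B) (_ : IsAlgClosed (ResidueField B)) (_ : Algebra R B),
      Module.FaithfullyFlat R B := by
  classical
  obtain ⟨R', _, _, _, _, hflat, hmap, ⟨e⟩⟩ := CAlg1.Gonfl.exists_extension (R := R)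
    (K := AlgebraicClosure (ResidueField R))
  have hfg : (maximalIdeal R').FG := hmap ▸ Ideal.FG.map (IsNoetherian.noetherian (maximalIdeal R)) _
  let B := AdicCompletion (maximalIdeal R') R'
  have hB : IsLocalRing B := AdicCompletion.isLocalRing_of_fg hfg
  have hBc : IsAdicComplete (maximalIdeal B) B := AdicCompletion.isAdicComplete_of_fg hfg
  have : IsNoetherianRing (R' ⧸ maximalIdeal R') := inferInstanceAs (IsNoetherianRing (ResidueField R'))
  have hBn : IsNoetherianRing B := CAlg1.isNoetherianRing_adicCompletion _ hfg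
  have hBloc : IsLocalHom (algebraMap R' B) := AdicCompletion.algebraMap_isLocalHom_of_fg hfg
  have : IsLocalHom (algebraMap R B) := by
    rw [IsScalarTower.algebraMap_eq R R' B]
    infer_instance
  have : IsAlgClosed (ResidueField R') := isAlgClosed_of_ringEquiv e.symm.toRingEquiv
  have hk : IsAlgClosed (ResidueField B) :=
    isAlgClosed_of_ringEquiv (RingEquiv.ofBijective _ (AdicCompletion.residueField_map_bijective_of_fg hfg))
  have hJ : (maximalIdeal R).map (algebraMap R B) ≤ Ideal.jacobson ⊥ :=
    (((local_hom_TFAE (algebraMap R B)).out 0 2 rfl rfl).mp inferInstance).trans (maximalIdeal_le_jacobson _)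
  have : Module.Flat R B := by
    refine CAlg7.flat_of_forall_flat_mod_pow (S := B) (maximalIdeal R) hJ fun k _ => ?_
    let a := maximalIdeal R ^ k
    have ha : a.map (algebraMap R R') = maximalIdeal R' ^ k := by rw [Ideal.map_pow, hmap]
    have h1 : Module.Flat (R ⧸ a) ((R ⧸ a) ⊗[R] R') := Module.Flat.baseChange R (R ⧸ a) R'
    let ev : B →ₗ[R] (R' ⧸ maximalIdeal R' ^ k) :=
      ((AdicCompletion.evalₐ (maximalIdeal R') k).restrictScalars R).toLinearMap
    have hev : Function.Surjective ev := AdicCompletion.surjective_evalₐ _ k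
    have hker : LinearMap.ker ev = (a • ⊤ : Submodule R B) := by
      rw [Ideal.smul_top_eq_map, IsScalarTower.algebraMap_eq R R' B, ← Ideal.map_map, ha]
      ext b
      rw [LinearMap.mem_ker, Submodule.restrictScalars_mem]
      have h2 := SetLike.ext_iff.mp (AdicCompletion.pow_smul_top_eq_ker_eval (I := maximalIdeal R') (M := R')
        (n := k) hfg) b
      rw [Ideal.smul_top_eq_map, Submodule.restrictScalars_mem, LinearMap.mem_ker] at h2
      rw [h2]
      show AdicCompletion.evalₐ (maximalIdeal R') k b = 0 ↔ _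
      rw [← AdicCompletion.factor_eval_eq_evalₐ _ _ (le_of_eq (Ideal.mul_top _))]
      obtain ⟨y, hy⟩ := Ideal.Quotient.mk_surjective (AdicCompletion.eval (maximalIdeal R') R' k b)
      rw [← hy]
      refine Iff.trans (b := y ∈ maximalIdeal R' ^ k) ?_ (Ideal.Quotient.eq_zero_iff_mem.trans ?_).symm
      · show Ideal.Quotient.mk (maximalIdeal R' ^ k) y = 0 ↔ y ∈ maximalIdeal R' ^ k
        exact Ideal.Quotient.eq_zero_iff_mem
      · rw [smul_eq_mul, Ideal.mul_top]
    let e1 : (B ⧸ (a • ⊤ : Submodule R B)) ≃ₗ[R] R' ⧸ maximalIdeal R' ^ k :=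
      (Submodule.quotEquivOfEq _ _ hker.symm) ≪≫ₗ ev.quotKerEquivOfSurjective hev
    have hsm : (a • ⊤ : Submodule R R') = (maximalIdeal R' ^ k).restrictScalars R := by
      rw [Ideal.smul_top_eq_map, ha]
    let e2 : (R' ⧸ (a • ⊤ : Submodule R R')) ≃ₗ[R] R' ⧸ maximalIdeal R' ^ k :=
      Submodule.quotEquivOfEq _ _ hsm ≪≫ₗ Submodule.Quotient.restrictScalarsEquiv R _
    let e3 := (TensorProduct.quotTensorEquivQuotSMul R' a) ≪≫ₗ e2 ≪≫ₗ e1.symm
    exact Module.Flat.of_linearEquiv (e3.extendScalarsOfSurjective (S := R ⧸ a) Ideal.Quotient.mk_surjective).symm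
  exact ⟨B, inferInstance, hBn, hB, hBc, hk, inferInstance, Module.FaithfullyFlat.of_flat_of_isLocalHom⟩

end Groth.Agent.Eff84
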