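import Groth.Agent.S9218
import Groth.Agent.S9219
import Mathlib.AlgebraicGeometry.Morphisms.FinitePresentation

/-!
# Morphisms between base changes along a cofiltered system over a scheme
-/

set_option autoImplicit false
set_option backward.isDefEq.respectTransparency false
set_option backward.defeqAttrib.useBackward true
universe u

open CategoryTheory Limits AlgebraicGeometry

namespace Groth.Agent.Eff84

variable {S : Scheme.{u}} {I : Type u} [SmallCategory I] [IsCofiltered I] (D : I ⥤ Scheme.{u})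
  (c : Cone D) (p : D ⟶ (Functor.const I).obj S) {h : c.pt ⟶ S} {X Y Z : Scheme.{u}}

theorem map_app {i j : I} (φ : j ⟶ i) : D.map φ ≫ p.app i = p.app j :=
  (p.naturality φ).trans (Category.comp_id _)

/-- The transition map of base changes. -/
noncomputable def tr (x : X ⟶ S) {i j : I} (φ : j ⟶ i) : pullback x (p.app j) ⟶ pullback x (p.app i) :=
  pullback.map _ _ _ _ (𝟙 X) (D.map φ) (𝟙 S) (by simp) ((Category.comp_id _).trans (map_app D p φ).symm)

/-- The base change of a morphism to a further stage. -/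
noncomputable def bc {x : X ⟶ S} {y : Y ⟶ S} {i j : I} (φ : j ⟶ i) (f : pullback x (p.app i) ⟶ pullback y (p.app i))
    (hf : f ≫ pullback.snd y (p.app i) = pullback.snd x (p.app i)) : pullback x (p.app j) ⟶ pullback y (p.app j) :=
  pullback.lift (tr D p x φ ≫ f ≫ pullback.fst y (p.app i)) (pullback.snd x (p.app j)) (by
    simp only [Category.assoc, pullback.condition, reassoc_of% hf, tr, pullback.lift_snd_assoc, map_app D p φ])

@[reassoc (attr := simp)]
theorem tr_fst (x : X ⟶ S) {i j : I} (φ : j ⟶ i) :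
    tr D p x φ ≫ pullback.fst x (p.app i) = pullback.fst x (p.app j) := by
  simp [tr]

@[reassoc (attr := simp)]
theorem tr_snd (x : X ⟶ S) {i j : I} (φ : j ⟶ i) :
    tr D p x φ ≫ pullback.snd x (p.app i) = pullback.snd x (p.app j) ≫ D.map φ := by
  simp [tr]

section
variable {x : X ⟶ S} {y : Y ⟶ S} {i j : I} (φ : j ⟶ i) (f : pullback x (p.app i) ⟶ pullback y (p.app i))
  (hf : f ≫ pullback.snd y (p.app i) = pullback.snd x (p.app i))

@[reassoc (attr := simp)]
theorem bc_fst : bc D p φ f hf ≫ pullback.fst y (p.app j) = tr D p x φ ≫ f ≫ pullback.fst y (p.app i) :=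
  pullback.lift_fst _ _ _

@[reassoc (attr := simp)]
theorem bc_snd : bc D p φ f hf ≫ pullback.snd y (p.app j) = pullback.snd x (p.app j) :=
  pullback.lift_snd _ _ _

@[reassoc]
theorem bc_tr : bc D p φ f hf ≫ tr D p y φ = tr D p x φ ≫ f := by
  apply pullback.hom_ext
  · simp
  · simp [hf]

theorem bc_congr {f' : pullback x (p.app i) ⟶ pullback y (p.app i)}
    (hf' : f' ≫ pullback.snd y (p.app i) = pullback.snd x (p.app i)) (e : tr D p x φ ≫ f = tr D p x φ ≫ f') :
    bc D p φ f hf = bc D p φ f' hf' := by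
  apply pullback.hom_ext
  · simp [reassoc_of% e]
  · simp

end

variable (hh : ∀ i, c.π.app i ≫ p.app i = h)

/-- The map from the base change to the limit to the base change to a stage. -/
noncomputable def lp (x : X ⟶ S) (i : I) : pullback x h ⟶ pullback x (p.app i) :=
  pullback.map _ _ _ _ (𝟙 X) (c.π.app i) (𝟙 S) (by simp) ((Category.comp_id _).trans (hh i).symm)

@[reassoc (attr := simp)]
theorem lp_fst (x : X ⟶ S) (i : I) : lp D c p hh x i ≫ pullback.fst x (p.app i) = pullback.fst x h := by
  simp [lp]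

@[reassoc (attr := simp)]
theorem lp_snd (x : X ⟶ S) (i : I) :
    lp D c p hh x i ≫ pullback.snd x (p.app i) = pullback.snd x h ≫ c.π.app i := by
  simp [lp]

@[reassoc]
theorem lp_tr (x : X ⟶ S) {i j : I} (φ : j ⟶ i) : lp D c p hh x j ≫ tr D p x φ = lp D c p hh x i := by
  apply pullback.hom_ext <;> simp

theorem isPullback_tr (x : X ⟶ S) {i j : I} (φ : j ⟶ i) :
    IsPullback (tr D p x φ) (pullback.snd x (p.app j)) (pullback.snd x (p.app i)) (D.map φ) := by
  refine IsPullback.of_right (h₁₂ := pullback.fst x (p.app i)) (v₁₃ := x) (h₂₂ := p.app i) ?_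
    (tr_snd D p x φ) (IsPullback.of_hasPullback _ _)
  rw [tr_fst, map_app D p φ]
  exact IsPullback.of_hasPullback _ _

theorem isPullback_lp (x : X ⟶ S) (i : I) :
    IsPullback (lp D c p hh x i) (pullback.snd x h) (pullback.snd x (p.app i)) (c.π.app i) := by
  refine IsPullback.of_right (h₁₂ := pullback.fst x (p.app i)) (v₁₃ := x) (h₂₂ := p.app i) ?_
    (lp_snd D c p hh x i) (IsPullback.of_hasPullback _ _)
  rw [lp_fst, hh i]
  exact IsPullback.of_hasPullback _ _

/-- A base change of finite presentation at a stage. -/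
structure GoodAt (x : X ⟶ S) (i : I) : Prop where
  lfp : LocallyOfFinitePresentation (pullback.snd x (p.app i))
  compact : CompactSpace ↥(pullback x (p.app i))
  qs : QuasiSeparatedSpace ↥(pullback x (p.app i))

theorem GoodAt.map [∀ (i j : I) (f : i ⟶ j), IsAffineHom (D.map f)] {x : X ⟶ S} {i j : I}
    (G : GoodAt D p x i) (φ : j ⟶ i) : GoodAt D p x j := by
  have hp := isPullback_tr D p x φ
  have := G.compact
  have := G.qs
  have : IsAffineHom (tr D p x φ) := MorphismProperty.of_isPullback hp.flip inferInstance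
  exact ⟨MorphismProperty.of_isPullback hp G.lfp, QuasiCompact.compactSpace_of_compactSpace (tr D p x φ),
    quasiSeparatedSpace_of_quasiSeparated (tr D p x φ)⟩

variable [∀ (i j : I) (f : i ⟶ j), IsAffineHom (D.map f)] (hc : IsLimit c) {x : X ⟶ S} {y : Y ⟶ S} {i : I}
  (Gx : GoodAt D p x i) (Gy : GoodAt D p y i)

include hc Gx Gy

theorem exists_hom (f : pullback x h ⟶ pullback y h) (hf : f ≫ pullback.snd y h = pullback.snd x h) :
    ∃ (j : I) (_ : j ⟶ i) (fj : pullback x (p.app j) ⟶ pullback y (p.app j)),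
      fj ≫ pullback.snd y (p.app j) = pullback.snd x (p.app j) ∧
      lp D c p hh x j ≫ fj = f ≫ lp D c p hh y j := by
  have := Gx.compact
  have := Gx.qs
  have := Gx.lfp
  have := Gy.compact
  have := Gy.qs
  have := Gy.lfp
  obtain ⟨j, φ, fj, sX, sY, h1, h2, h3, h4, h5, h6⟩ := S9218.result D c hc i
    (pullback.snd x (p.app i)) (pullback.snd y (p.app i))
    (lp D c p hh x i) (pullback.snd x h) (isPullback_lp D c p hh x i)
    (lp D c p hh y i) (pullback.snd y h) (isPullback_lp D c p hh y i) f hf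
  let ex := (isPullback_tr D p x φ).isoPullback
  let ey := (isPullback_tr D p y φ).isoPullback
  have hx : lp D c p hh x j ≫ ex.hom = sX := by
    apply pullback.hom_ext
    · simp [ex, h2, lp_tr]
    · simp [ex, h3]
  have hy : lp D c p hh y j ≫ ey.hom = sY := by
    apply pullback.hom_ext
    · simp [ey, h4, lp_tr]
    · simp [ey, h5]
  refine ⟨j, φ, ex.hom ≫ fj ≫ ey.inv, ?_, ?_⟩
  · simp [ex, ey, h1]
  · rw [reassoc_of% hx, reassoc_of% h6, ← hy]
    simp

omit hc in
theorem exists_eq (hc : IsLimit c) (f f' : pullback x (p.app i) ⟶ pullback y (p.app i))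
    (hf : f ≫ pullback.snd y (p.app i) = pullback.snd x (p.app i))
    (hf' : f' ≫ pullback.snd y (p.app i) = pullback.snd x (p.app i))
    (e : lp D c p hh x i ≫ f = lp D c p hh x i ≫ f') :
    ∃ (j : I) (φ : j ⟶ i), tr D p x φ ≫ f = tr D p x φ ≫ f' := by
  have := Gx.compact
  have := Gx.qs
  have := Gx.lfp
  have := Gy.compact
  have := Gy.qs
  have := Gy.lfp
  obtain ⟨j, φ, hj⟩ := S9219.result D c hc i (pullback.snd x (p.app i)) (pullback.snd y (p.app i))
    (lp D c p hh x i) (pullback.snd x h) (isPullback_lp D c p hh x i) f f' hf hf' e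
  refine ⟨j, φ, ?_⟩
  have := congrArg (fun k => (isPullback_tr D p x φ).isoPullback.hom ≫ k) hj
  simpa using this

/-- An isomorphism at the limit is one at a stage. -/
theorem exists_isIso (m : pullback x (p.app i) ⟶ pullback y (p.app i))
    (hm : m ≫ pullback.snd y (p.app i) = pullback.snd x (p.app i))
    (n : pullback x h ⟶ pullback y h) [IsIso n] (hn : n ≫ pullback.snd y h = pullback.snd x h)
    (e : lp D c p hh x i ≫ m = n ≫ lp D c p hh y i) :
    ∃ (j : I) (φ : j ⟶ i), IsIso (bc D p φ m hm) := by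
  obtain ⟨j, φ, r, hr, hrn⟩ := exists_hom D c p hh hc Gy Gx (inv n) (by rw [IsIso.inv_comp_eq, hn])
  have hlp : lp D c p hh x j ≫ bc D p φ m hm = n ≫ lp D c p hh y j := by
    apply pullback.hom_ext
    · simp only [Category.assoc, bc_fst, lp_fst, lp_tr_assoc]
      rw [reassoc_of% e, lp_fst]
    · simp only [Category.assoc, bc_snd, lp_snd, reassoc_of% hn]
  obtain ⟨k, ψ, hk⟩ := exists_eq D c p hh (Gx.map D p φ) (Gx.map D p φ) hc (bc D p φ m hm ≫ r) (𝟙 _)
    (by rw [Category.assoc, hr, bc_snd]) (Category.id_comp _) (by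
      rw [reassoc_of% hlp, hrn]; simp)
  obtain ⟨l, χ, hl⟩ := exists_eq D c p hh ((Gy.map D p φ).map D p ψ) ((Gy.map D p φ).map D p ψ) hc
    (bc D p ψ r hr ≫ bc D p ψ (bc D p φ m hm) (bc_snd D p φ m hm)) (𝟙 _)
    (by simp) (Category.id_comp _) (by
      rw [Category.comp_id]
      apply pullback.hom_ext
      · simp only [Category.assoc, bc_fst, lp_fst]
        rw [reassoc_of% (bc_tr D p ψ r hr), lp_tr_assoc, reassoc_of% hrn, lp_tr_assoc, reassoc_of% e, lp_fst]
        exact IsIso.inv_hom_id_assoc _ _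
      · simp)
  refine ⟨l, χ ≫ ψ ≫ φ, ?_⟩
  have hu : bc D p (χ ≫ ψ ≫ φ) m hm =
      bc D p χ (bc D p ψ (bc D p φ m hm) (bc_snd D p φ m hm)) (bc_snd ..) := by
    apply pullback.hom_ext
    · simp only [bc_fst]
      simp only [← Category.assoc]
      refine congrArg (fun k => (k ≫ m) ≫ _) ?_
      apply pullback.hom_ext <;> simp
    · simp
  rw [hu]
  refine ⟨bc D p χ (bc D p ψ r hr) (bc_snd ..), ?_, ?_⟩
  · apply pullback.hom_ext
    · simp only [Category.assoc, bc_fst, Category.id_comp]
      rw [reassoc_of% (bc_tr D p χ (bc D p ψ (bc D p φ m hm) (bc_snd D p φ m hm)) (bc_snd ..))]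
      rw [reassoc_of% (bc_tr D p ψ (bc D p φ m hm) (bc_snd D p φ m hm))]
      have hk' := congrArg (fun t => tr D p x χ ≫ t ≫ pullback.fst x (p.app j)) hk
      simp only [Category.assoc, Category.comp_id, tr_fst] at hk'
      exact hk'
    · simp
  · apply pullback.hom_ext
    · simp only [Category.assoc, bc_fst, Category.id_comp]
      rw [reassoc_of% (bc_tr D p χ (bc D p ψ r hr) (bc_snd ..))]
      have hl' := congrArg (fun t => t ≫ pullback.fst y (p.app k)) hl
      simp only [Category.assoc, Category.comp_id, tr_fst] at hl'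
      simpa only [bc_fst, Category.assoc] using hl'
    · simp

end Groth.Agent.Eff84
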