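import Groth.Agent.Eff84.Descend
import Groth.Agent.Eff84.Basic
import Groth.Agent.Desc59.DDZariski

/-!
# Effectivity of étale descent data is local for the fpqc and Zariski topologies
-/

set_option autoImplicit false
set_option backward.isDefEq.respectTransparency false
universe u

open CategoryTheory Limits AlgebraicGeometry

namespace Groth.Agent.Eff84

open Desc Groth.Agent.Desc59

variable {S' S : Scheme.{u}} {g : S' ⟶ S}

/-- Effectivity for a one-member family is effectivity for its member. -/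
theorem nonempty_fam_iff (U : Over S) (D : SchDDFam (fun _ : PUnit.{1} => g)) :
    Nonempty ((toDDFam (fun _ : PUnit.{1} => g)).obj U ≅ D) ↔
      Nonempty ((toDD g).obj U ≅ (SchDDFam.toSchDD g).obj D) := by
  refine ⟨fun ⟨e⟩ => ⟨(SchDDFam.toSchDD g).mapIso e⟩, fun ⟨e⟩ => ?_⟩
  exact ⟨(SchDDFam.ofSchDD g).mapIso e⟩

variable {S₁ : Scheme.{u}} {D : SchDD g}

/-- An isomorphism with a canonical datum gives a quotient with the same scheme. -/
theorem exists_isQuot_of_iso {X B : Scheme.{u}} {f : X ⟶ B} {E : SchDD f} {U : Over B}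
    (h : Nonempty ((toDD f).obj U ≅ E)) :
    ∃ (U' : Over B) (π : E.obj.left ⟶ U'.left), IsQuot E U' π ∧ U' = U := by
  obtain ⟨e⟩ := h
  let i : E.obj ≅ ((toDD f).obj U).obj :=
    ⟨e.inv.hom, e.hom.hom, congrArg SchDD.Hom.hom e.inv_hom_id, congrArg SchDD.Hom.hom e.hom_inv_id⟩
  refine ⟨U, i.hom.left ≫ pullback.snd f U.hom, ⟨?_, ?_⟩, rfl⟩
  · refine IsPullback.of_iso_pullback ⟨?_⟩ ((Over.forget X).mapIso i ≪≫ pullbackSymmetry _ _) ?_ ?_
    · have := Over.w i.hom
      rw [Category.assoc, ← pullback.condition]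
      exact (Category.assoc _ _ _).symm.trans (congrArg (· ≫ f) this)
    · simp
    · simpa [toDD, canonicalDD] using Over.w i.hom
  · let v : Lifts E.obj (pullback.snd f (E.obj.hom ≫ f) ≫ E.obj.hom) :=
      ⟨pullback.snd f (E.obj.hom ≫ f), rfl⟩
    have key := e.inv.comm _ _ (src_cond E) v (e.inv.push v) rfl
    show θ E ≫ i.hom.left ≫ _ = _
    have : θ E = (E.φ _ _ (src_cond E) v).1 := rfl
    rw [this, ← Category.assoc, ← key]
    simp [toDD, canonicalDD, SchDD.Hom.push, v, i]

/-- The pullback of a quotient is a quotient of the pulled back datum. -/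
theorem exists_isQuot_pull (p : S₁ ⟶ S) (hsq : pullback.fst g p ≫ g = pullback.snd g p ≫ p) {U : Over S}
    {π : D.obj.left ⟶ U.left} (h : IsQuot D U π) :
    ∃ π₁, IsQuot (pullDD hsq D) (Over.mk (pullback.snd U.hom p)) π₁ := by
  let E := pullDD hsq D
  let q := pullback.fst g p
  let dV : E.obj.left ⟶ D.obj.left := pullback.fst D.obj.hom q
  have hbig : IsPullback (dV ≫ π) E.obj.hom U.hom (q ≫ g) :=
    (IsPullback.of_hasPullback D.obj.hom q).paste_horiz h.isPullback
  have hc : (dV ≫ π) ≫ U.hom = (E.obj.hom ≫ pullback.snd g p) ≫ p := by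
    rw [hbig.w, Category.assoc, hsq]
  let π₁ : E.obj.left ⟶ pullback U.hom p := pullback.lift (dV ≫ π) (E.obj.hom ≫ pullback.snd g p) hc
  refine ⟨π₁, ?_, ?_⟩
  · refine IsPullback.of_right (h₁₂ := pullback.fst U.hom p) (v₁₃ := U.hom) (h₂₂ := p) ?_
      (pullback.lift_snd (dV ≫ π) (E.obj.hom ≫ pullback.snd g p) hc) (IsPullback.of_hasPullback U.hom p)
    rw [show pullback.snd g p ≫ p = q ≫ g from hsq.symm]
    rw [pullback.lift_fst]; exact hbig
  · show θ E ≫ π₁ = _ ≫ π₁
    apply pullback.hom_ext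
    · simp only [Category.assoc, π₁, pullback.lift_fst]
      show θ (pullDD hsq D) ≫ pullback.fst D.obj.hom (pullback.fst g p) ≫ π = _
      rw [θ_pullDD_fst_assoc, h.invariant, srcPull_snd_assoc]
    · simp only [Category.assoc, π₁, pullback.lift_snd, θ_hom_assoc]
      exact pullback.condition

/-- Fpqc descent of effectivity. -/
theorem exists_effective_iff_fpqc (hg : SGA1.UnivSubmersive g) (p : S₁ ⟶ S) [Flat p] [Surjective p] [QuasiCompact p]
    (hsq : pullback.fst g p ≫ g = pullback.snd g p ≫ p) :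
    (∃ U : Over S, Etale U.hom ∧ IsSeparated U.hom ∧ QuasiCompact U.hom ∧ Nonempty ((toDD g).obj U ≅ D)) ↔
      ∃ U : Over S₁, Etale U.hom ∧ IsSeparated U.hom ∧ QuasiCompact U.hom ∧
        Nonempty ((toDD (pullback.snd g p)).obj U ≅ pullDD hsq D) := by
  constructor
  · rintro ⟨U, het, hsep, hqc, hiso⟩
    obtain ⟨U', π, hπ, rfl⟩ := exists_isQuot_of_iso hiso
    refine ⟨Over.mk (pullback.snd U'.hom p), inferInstanceAs (Etale (pullback.snd U'.hom p)),
      inferInstanceAs (IsSeparated (pullback.snd U'.hom p)), inferInstanceAs (QuasiCompact (pullback.snd U'.hom p)), ?_⟩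
    obtain ⟨π₂, hπ₂⟩ := exists_isQuot_pull p hsq hπ
    exact hπ₂.nonempty_iso
  · rintro ⟨U₁, het, hsep, hqc, hiso⟩
    obtain ⟨U₁', π₁, hπ₁, h'⟩ : ∃ (U₁' : Over S₁) (π₁ : (pullDD hsq D).obj.left ⟶ U₁'.left),
        IsQuot (pullDD hsq D) U₁' π₁ ∧ U₁' = U₁ := by
      exact exists_isQuot_of_iso hiso
    subst h'
    obtain ⟨U, π, hπ, ρ, hρ⟩ := exists_isQuot_of_pullback hg hsq hπ₁ fun F hF => by
      have : Etale F.obj.hom := hF ▸ het
      have : IsSeparated F.obj.hom := hF ▸ hsep
      have : QuasiCompact F.obj.hom := hF ▸ hqc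
      obtain ⟨U, -, -, -, h⟩ := effective_of_fpqc p F
      exact exists_isQuot_iff.mpr ⟨U, h⟩
    have hp : (@Surjective ⊓ @Flat ⊓ @QuasiCompact : MorphismProperty Scheme.{u}) p :=
      ⟨⟨inferInstance, inferInstance⟩, inferInstance⟩
    have := S0079.result.{u}
    have := S0081.result.{u}
    exact ⟨U, MorphismProperty.of_isPullback_of_descendsAlong (P := @Etale) hρ.flip hp het,
      MorphismProperty.of_isPullback_of_descendsAlong (P := @IsSeparated) hρ.flip hp hsep,
      MorphismProperty.of_isPullback_of_descendsAlong (P := @QuasiCompact) hρ.flip hp hqc, hπ.nonempty_iso⟩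

end Groth.Agent.Eff84
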