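import Groth.Agent.Eff84.Local

/-!
# Quotients of a descent datum over a base change, without forming the pulled back datum
-/

set_option autoImplicit false
set_option backward.isDefEq.respectTransparency false
universe u

open CategoryTheory Limits AlgebraicGeometry

namespace Groth.Agent.Eff84

open Desc Groth.Agent.Desc59

variable {S' S : Scheme.{u}} {g : S' ⟶ S} (D : SchDD g)

/-- The underlying scheme over the base. -/
abbrev dY : D.obj.left ⟶ S := D.obj.hom ≫ g

/-- The source of the action over the base. -/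
noncomputable abbrev rY : src D ⟶ S := pullback.snd g (dY D) ≫ dY D

theorem θ_dY : θ D ≫ dY D = rY D := by
  show θ D ≫ D.obj.hom ≫ g = _
  rw [θ_hom_assoc]
  exact pullback.condition

variable {S₁ S₂ : Scheme.{u}} {X Y : Scheme.{u}}

/-- The base change of an `S`-morphism. -/
noncomputable abbrev bcS {x : X ⟶ S} {y : Y ⟶ S} (f : X ⟶ Y) (hf : f ≫ y = x) (p : S₁ ⟶ S) :
    pullback x p ⟶ pullback y p :=
  pullback.map x p y p f (𝟙 _) (𝟙 _) ((Category.comp_id x).trans hf.symm) (by simp)

/-- A quotient of `D` over `p`. -/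
structure QuotAt (p : S₁ ⟶ S) (U : Over S₁) (π : pullback (dY D) p ⟶ U.left) : Prop where
  w : π ≫ U.hom = pullback.snd (dY D) p
  cart : IsPullback π (pullback.fst (dY D) p ≫ D.obj.hom) (U.hom ≫ p) g
  inv : bcS (θ D) (θ_dY D) p ≫ π = bcS (pullback.snd g (dY D)) rfl p ≫ π

/-- `D` is effective over `p` by an étale scheme. -/
def EffAt (p : S₁ ⟶ S) : Prop :=
  ∃ (U : Over S₁) (π : pullback (dY D) p ⟶ U.left), Etale U.hom ∧ QuotAt D p U π

variable {D} {p : S₁ ⟶ S}

theorem srcPull_cond (hsq : pullback.fst g p ≫ g = pullback.snd g p ≫ p) :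
    srcPull hsq D ≫ rY D =
      (pullback.snd (pullback.snd g p) ((pullDD hsq D).obj.hom ≫ pullback.snd g p) ≫
        (pullDD hsq D).obj.hom ≫ pullback.snd g p) ≫ p := by
  rw [srcPull_snd_assoc]
  simp only [Category.assoc, pullDD_hom]
  refine congrArg (_ ≫ ·) ?_
  rw [← hsq, ← pullback.condition_assoc]

theorem QuotAt.exists_isQuot {U : Over S₁} {π : pullback (dY D) p ⟶ U.left} (h : QuotAt D p U π)
    (hsq : pullback.fst g p ≫ g = pullback.snd g p ≫ p) : ∃ π', IsQuot (pullDD hsq D) U π' := by
  let E := pullDD hsq D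
  let g₁ := pullback.snd g p
  let a := pullback.fst D.obj.hom (pullback.fst g p)
  let b := pullback.snd D.obj.hom (pullback.fst g p)
  have hab : a ≫ D.obj.hom = b ≫ pullback.fst g p := pullback.condition
  have hE : IsPullback a (b ≫ g₁) (dY D) p :=
    (IsPullback.of_hasPullback D.obj.hom (pullback.fst g p)).paste_vert (IsPullback.of_hasPullback g p)
  let e := hE.isoPullback
  have he1 : e.hom ≫ pullback.fst _ _ = a := hE.isoPullback_hom_fst
  have he2 : e.hom ≫ pullback.snd _ _ = b ≫ g₁ := hE.isoPullback_hom_snd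
  refine ⟨e.hom ≫ π, ?_, ?_⟩
  · have hbig : IsPullback (e.hom ≫ π) (b ≫ pullback.fst g p) (U.hom ≫ p) g := by
      refine IsPullback.of_iso h.cart e.symm (Iso.refl _) (Iso.refl _) (Iso.refl _) ?_ ?_ ?_ ?_
      · simp
      · simp only [Iso.symm_hom, Iso.refl_hom, Category.comp_id, ← hab, ← he1, Category.assoc, e.inv_hom_id_assoc]
      · simp
      · simp
    exact IsPullback.of_bot hbig ((Category.assoc _ _ _).trans ((congrArg (e.hom ≫ ·) h.w).trans he2))
      (IsPullback.of_hasPullback g p).flip
  · show θ E ≫ e.hom ≫ π = pullback.snd g₁ (E.obj.hom ≫ g₁) ≫ e.hom ≫ π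
    let k : src E ⟶ pullback (rY D) p := pullback.lift (srcPull hsq D)
      (pullback.snd g₁ (E.obj.hom ≫ g₁) ≫ E.obj.hom ≫ g₁) (srcPull_cond hsq)
    have h1 : θ E ≫ e.hom = k ≫ bcS (θ D) (θ_dY D) p := by
      apply pullback.hom_ext
      · simp only [Category.assoc, he1, k, pullback.lift_fst, pullback.lift_fst_assoc]
        exact θ_pullDD_fst hsq D
      · simp only [Category.assoc, he2, k, pullback.lift_snd, pullback.lift_snd_assoc, Category.comp_id]
        refine (θ_hom_assoc E g₁).trans ?_
        exact pullback.condition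
    have h2 : pullback.snd g₁ (E.obj.hom ≫ g₁) ≫ e.hom = k ≫ bcS (pullback.snd g (dY D)) rfl p := by
      apply pullback.hom_ext
      · simp only [Category.assoc, he1, k, pullback.lift_fst, pullback.lift_fst_assoc]
        exact (srcPull_snd hsq D).symm
      · simp only [Category.assoc, he2, k, pullback.lift_snd, pullback.lift_snd_assoc, Category.comp_id]
        rfl
    rw [reassoc_of% h1, reassoc_of% h2, h.inv]

theorem exists_quotAt {hsq : pullback.fst g p ≫ g = pullback.snd g p ≫ p} {U : Over S₁}
    {π' : (pullDD hsq D).obj.left ⟶ U.left} (h : IsQuot (pullDD hsq D) U π') : ∃ π, QuotAt D p U π := by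
  let E := pullDD hsq D
  let g₁ := pullback.snd g p
  let a := pullback.fst D.obj.hom (pullback.fst g p)
  let b := pullback.snd D.obj.hom (pullback.fst g p)
  have hE : IsPullback a (b ≫ g₁) (dY D) p :=
    (IsPullback.of_hasPullback D.obj.hom (pullback.fst g p)).paste_vert (IsPullback.of_hasPullback g p)
  let e := hE.isoPullback
  have he1 : e.hom ≫ pullback.fst _ _ = a := hE.isoPullback_hom_fst
  have he2 : e.hom ≫ pullback.snd _ _ = b ≫ g₁ := hE.isoPullback_hom_snd
  refine ⟨e.inv ≫ π', ?_, ?_, ?_⟩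
  · rw [Category.assoc, h.isPullback.w, Iso.inv_comp_eq, he2]
    rfl
  · have hc := h.isPullback.flip.paste_horiz (IsPullback.of_hasPullback g p).flip.flip |>.flip
    refine IsPullback.of_iso hc e (Iso.refl _) (Iso.refl _) (Iso.refl _) (by simp) ?_ (by simp) (by simp)
    simp only [Iso.refl_hom, Category.comp_id, reassoc_of% he1]
    exact pullback.condition.symm
  · have hK : (pullback.fst (rY D) p ≫ pullback.snd g (dY D) ≫ D.obj.hom) ≫ g =
        pullback.snd (rY D) p ≫ p := by
      rw [← pullback.condition]; simp [rY, dY]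
    let u : pullback (rY D) p ⟶ pullback g p :=
      pullback.lift (pullback.fst (rY D) p ≫ pullback.fst g (dY D)) (pullback.snd (rY D) p) (by
        rw [← pullback.condition, Category.assoc, pullback.condition (f := g)])
    let v : pullback (rY D) p ⟶ E.obj.left :=
      pullback.lift (pullback.fst (rY D) p ≫ pullback.snd g (dY D)) (pullback.lift _ _ hK) (by
        simp only [pullback.lift_fst, Category.assoc])
    let l : pullback (rY D) p ⟶ src E := pullback.lift u v (by
      simp only [u, v, E, pullDD_hom, pullback.lift_snd, pullback.lift_snd_assoc])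
    have hsp : l ≫ srcPull hsq D = pullback.fst (rY D) p := by
      apply pullback.hom_ext
      · rw [Category.assoc, srcPull_fst]
        refine (pullback.lift_fst_assoc _ _ _ _).trans ?_
        exact pullback.lift_fst _ _ _
      · rw [Category.assoc, srcPull_snd]
        refine (pullback.lift_snd_assoc _ _ _ _).trans ?_
        exact pullback.lift_fst _ _ _
    have hl : pullback.snd g₁ (E.obj.hom ≫ g₁) ≫ E.obj.hom ≫ g₁ = pullback.fst g₁ _ ≫ g₁ :=
      pullback.condition.symm
    have h1 : bcS (θ D) (θ_dY D) p = l ≫ θ E ≫ e.hom := by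
      apply pullback.hom_ext
      · simp only [Category.assoc, he1, pullback.lift_fst]
        refine Eq.trans ?_ (congrArg (l ≫ ·) (θ_pullDD_fst hsq D)).symm
        exact ((Category.assoc _ _ _).symm.trans (congrArg (· ≫ θ D) hsp)).symm
      · simp only [Category.assoc, he2, pullback.lift_snd, Category.comp_id]
        refine Eq.trans ?_ (congrArg (l ≫ ·) (θ_hom_assoc E g₁)).symm
        refine Eq.trans ?_ (pullback.lift_fst_assoc _ _ _ _).symm
        exact (pullback.lift_snd _ _ _).symm
    have h2 : bcS (pullback.snd g (dY D)) rfl p = l ≫ pullback.snd g₁ (E.obj.hom ≫ g₁) ≫ e.hom := by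
      apply pullback.hom_ext
      · simp only [Category.assoc, he1, pullback.lift_fst]
        refine Eq.trans ?_ (pullback.lift_snd_assoc _ _ _ _).symm
        exact (pullback.lift_fst _ _ _).symm
      · simp only [Category.assoc, he2, pullback.lift_snd, Category.comp_id]
        refine Eq.trans ?_ (congrArg (l ≫ ·) hl).symm
        refine Eq.trans ?_ (pullback.lift_fst_assoc _ _ _ _).symm
        exact (pullback.lift_snd _ _ _).symm
    rw [h1, h2]
    simp only [Category.assoc, e.hom_inv_id_assoc]
    exact congrArg (l ≫ ·) h.invariant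

theorem effAt_iff (hsq : pullback.fst g p ≫ g = pullback.snd g p ≫ p) :
    EffAt D p ↔ ∃ U : Over S₁, Etale U.hom ∧
      Nonempty ((toDD (pullback.snd g p)).obj U ≅ pullDD hsq D) := by
  constructor
  · rintro ⟨U, π, het, h⟩
    obtain ⟨π', h'⟩ := h.exists_isQuot hsq
    exact ⟨U, het, h'.nonempty_iso⟩
  · rintro ⟨U, het, hiso⟩
    obtain ⟨U', π', hπ', rfl⟩ := exists_isQuot_of_iso hiso
    obtain ⟨π, hπ⟩ := exists_quotAt hπ'
    exact ⟨U', π, het, hπ⟩

theorem EffAt.comp (h : EffAt D p) (r : S₂ ⟶ S₁) {p₂ : S₂ ⟶ S} (hr : r ≫ p = p₂) : EffAt D p₂ := by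
  subst hr
  obtain ⟨U, π, het, h⟩ := h
  let tr : pullback (dY D) (r ≫ p) ⟶ pullback (dY D) p :=
    pullback.map _ _ _ _ (𝟙 _) r (𝟙 _) (by simp) (by simp)
  have hw : (tr ≫ π) ≫ U.hom = pullback.snd (dY D) (r ≫ p) ≫ r := by
    rw [Category.assoc, h.w, pullback.lift_snd]
  let π₂ : pullback (dY D) (r ≫ p) ⟶ pullback U.hom r := pullback.lift (tr ≫ π) (pullback.snd _ _) hw
  refine ⟨Over.mk (pullback.snd U.hom r), π₂, inferInstanceAs (Etale (pullback.snd U.hom r)),
    pullback.lift_snd _ _ _, ?_, ?_⟩
  · have htr : IsPullback tr (pullback.snd (dY D) (r ≫ p)) (pullback.snd (dY D) p) r := by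
      refine IsPullback.of_right (h₁₂ := pullback.fst (dY D) p) (v₁₃ := dY D) (h₂₂ := p) ?_
        (pullback.lift_snd _ _ _) (IsPullback.of_hasPullback _ _)
      rw [pullback.lift_fst, Category.comp_id]
      exact IsPullback.of_hasPullback _ _
    rw [← h.w] at htr
    have hπ₂ : IsPullback tr π₂ π (pullback.fst U.hom r) := by
      refine IsPullback.of_bot (h₃₁ := r) (v₂₁ := pullback.snd U.hom r) (v₂₂ := U.hom) ?_
        (pullback.lift_fst _ _ _).symm (IsPullback.of_hasPullback U.hom r)
      rw [show π₂ ≫ pullback.snd U.hom r = pullback.snd (dY D) (r ≫ p) from pullback.lift_snd _ _ _]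
      exact htr
    have := hπ₂.flip.paste_vert h.cart
    have e1 : tr ≫ pullback.fst (dY D) p ≫ D.obj.hom = pullback.fst (dY D) (r ≫ p) ≫ D.obj.hom := by
      rw [pullback.lift_fst_assoc, Category.comp_id]
    have e2 : pullback.fst U.hom r ≫ U.hom ≫ p = (Over.mk (pullback.snd U.hom r)).hom ≫ r ≫ p := by
      rw [pullback.condition_assoc]; rfl
    rwa [e1, e2] at this
  · apply pullback.hom_ext
    · simp only [Category.assoc, π₂, pullback.lift_fst]
      have k1 : bcS (θ D) (θ_dY D) (r ≫ p) ≫ tr = pullback.map _ _ _ _ (𝟙 _) r (𝟙 _) (by simp) (by simp) ≫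
          bcS (θ D) (θ_dY D) p := by apply pullback.hom_ext <;> simp [tr]
      have k2 : bcS (pullback.snd g (dY D)) rfl (r ≫ p) ≫ tr =
          pullback.map _ _ _ _ (𝟙 _) r (𝟙 _) (by simp) (by simp) ≫
          bcS (pullback.snd g (dY D)) rfl p := by apply pullback.hom_ext <;> simp [tr]
      rw [reassoc_of% k1, reassoc_of% k2, h.inv]
    · simp only [Category.assoc, π₂, pullback.lift_snd, Category.comp_id]

end Groth.Agent.Eff84
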