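import Groth.Agent.Desc59.DDOfTheta
import Groth.Agent.Desc59.DDAffine
import Groth.Agent.Desc59.DDPull
import Mathlib.AlgebraicGeometry.Morphisms.UniversallyInjective

/-!
# Effective descent along radicial fpqc morphisms
-/

set_option autoImplicit false
set_option backward.isDefEq.respectTransparency false
universe u

open CategoryTheory Limits AlgebraicGeometry

namespace Groth.Agent.Eff84

open Desc Groth.Agent.Desc59

variable {X S : Scheme.{u}} {p : X ⟶ S}

theorem isSat_of_universallyInjective [UniversallyInjective p] (D : SchDD p) (O : D.obj.left.Opens) :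
    IsSat D O := by
  let pr := pullback.snd p (D.obj.hom ≫ p)
  have hinj : Function.Injective pr :=
    have : UniversallyInjective pr :=
      MorphismProperty.pullback_snd (P := @UniversallyInjective) p (D.obj.hom ≫ p) inferInstance
    pr.injective
  let δ : D.obj.left ⟶ src D := pullback.lift D.obj.hom (𝟙 D.obj.left) (by simp)
  have key : ∀ z, θ D z = pr z := fun z => by
    have hz : δ (pr z) = z := hinj (by
      rw [← Scheme.Hom.comp_apply δ, show δ ≫ pr = 𝟙 _ from pullback.lift_snd _ _ _]; rfl)
    conv_lhs => rw [← hz, ← Scheme.Hom.comp_apply, show δ ≫ θ D = 𝟙 _ from diag_θ D]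
    rfl
  refine le_antisymm ?_ ?_ <;> intro z hz
  · show pr z ∈ O
    rw [← key]; exact hz
  · show θ D z ∈ O
    rw [key]; exact hz

theorem effective_of_radicial_affine_base [Flat p] [Surjective p] [QuasiCompact p] [UniversallyInjective p]
    [IsAffine S] (D : SchDD p) : ∃ U : Over S, Nonempty ((toDD p).obj U ≅ D) := by
  have : Surjective (pullback.diagonal p) := (UniversallyInjective.iff_diagonal p).mp inferInstance
  have : IsSeparated p := ⟨IsClosedImmersion.of_isPreimmersion _ (by
    rw [(pullback.diagonal p).surjective.range_eq]; exact isClosed_univ)⟩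
  have : X.IsSeparated := ⟨by rw [← terminal.comp_from p]; infer_instance⟩
  refine effective_of_locally_effective fun v => ?_
  obtain ⟨_, ⟨O, hO, rfl⟩, hvO, -⟩ :=
    D.obj.left.isBasis_affineOpens.exists_subset_of_mem_open (Set.mem_univ v) isOpen_univ
  change D.obj.left.Opens at O
  have hsat := isSat_of_universallyInjective D O
  let D' := restrictDD D hsat
  have : IsAffine D'.obj.left := hO
  have hv : v ∈ (restrictDDι D hsat).hom.left.opensRange := by
    rw [opensRange_restrictDDι]; exact hvO
  have : IsAffineHom D'.obj.hom := by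
    have : IsAffineHom (D'.obj.hom ≫ terminal.from X) := by
      rw [terminal.comp_from]; infer_instance
    exact IsAffineHom.of_comp D'.obj.hom (terminal.from X)
  exact ⟨D', restrictDDι D hsat, inferInstanceAs (IsOpenImmersion O.ι), hv, effective_of_isAffineHom p D'⟩

theorem effective_of_radicial (p : X ⟶ S) [Flat p] [Surjective p] [QuasiCompact p] [UniversallyInjective p]
    (D : SchDD p) : ∃ U : Over S, Nonempty ((toDD p).obj U ≅ D) := by
  refine exists_isQuot_iff.mp (exists_isQuot_of_cover fun v => ?_)
  obtain ⟨_, ⟨W, hW, rfl⟩, hvW, -⟩ :=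
    S.isBasis_affineOpens.exists_subset_of_mem_open (Set.mem_univ ((D.obj.hom ≫ p) v)) isOpen_univ
  change S.Opens at W
  have : IsAffine W.toScheme := hW
  let D₁ := pullDD (morphismRestrict_ι p W).symm D
  have hf := isPullback_morphismRestrict p W
  have : Surjective (p ∣_ W) := MorphismProperty.of_isPullback hf.flip inferInstance
  have : UniversallyInjective (p ∣_ W) := MorphismProperty.of_isPullback hf.flip inferInstance
  obtain ⟨U₁, π₁, hπ₁⟩ := exists_isQuot_iff.mpr (effective_of_radicial_affine_base D₁)
  obtain ⟨π₀, hπ₀⟩ := exists_isQuotOn_of_restrict D W hπ₁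
  exact ⟨_, _, π₀, hvW, hπ₀⟩

end Groth.Agent.Eff84
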