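import Groth.Agent.Desc59.DDPull
import Groth.Agent.Desc59.DDDescend
import Groth.Agent.Sga84.DescEtale

/-!
# Representing the invariant sections of a descent datum
-/

set_option autoImplicit false
set_option backward.isDefEq.respectTransparency false
universe u

open CategoryTheory Limits AlgebraicGeometry

namespace Groth.Agent.Eff84

open Desc Groth.Agent.Desc59

variable {S' S : Scheme.{u}} {g : S' ⟶ S}

/-- Change of the base of `T ×_S S'`. -/
noncomputable def pmap {T T' : Scheme.{u}} {y : T ⟶ S} {y' : T' ⟶ S} (t : T' ⟶ T) (h : t ≫ y = y') :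
    pullback y' g ⟶ pullback y g :=
  pullback.lift (pullback.fst y' g ≫ t) (pullback.snd y' g) (by rw [Category.assoc, h, pullback.condition])

@[reassoc (attr := simp)]
theorem pmap_fst {T T' : Scheme.{u}} {y : T ⟶ S} {y' : T' ⟶ S} (t : T' ⟶ T) (h : t ≫ y = y') :
    pmap (g := g) t h ≫ pullback.fst y g = pullback.fst y' g ≫ t := pullback.lift_fst _ _ _

@[reassoc (attr := simp)]
theorem pmap_snd {T T' : Scheme.{u}} {y : T ⟶ S} {y' : T' ⟶ S} (t : T' ⟶ T) (h : t ≫ y = y') :
    pmap (g := g) t h ≫ pullback.snd y g = pullback.snd y' g := pullback.lift_snd _ _ _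

theorem pmap_pmap {T T' T'' : Scheme.{u}} {y : T ⟶ S} {y' : T' ⟶ S} {y'' : T'' ⟶ S} (t : T' ⟶ T)
    (h : t ≫ y = y') (t' : T'' ⟶ T') (h' : t' ≫ y' = y'') :
    pmap (g := g) t' h' ≫ pmap t h = pmap (t' ≫ t) (by rw [Category.assoc, h, h']) := by
  apply pullback.hom_ext <;> simp

theorem pmap_congr {T T' : Scheme.{u}} {y : T ⟶ S} {y' : T' ⟶ S} {t t' : T' ⟶ T} (e : t = t')
    (h : t ≫ y = y') : pmap (g := g) t h = pmap t' (e ▸ h) := by subst e; rfl

theorem pmap_comp_rel {T T' : Scheme.{u}} {y : T ⟶ S} {y' : T' ⟶ S} (t : T' ⟶ T) (h : t ≫ y = y') :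
    IsPullback (pmap (g := g) t h) (pullback.fst y' g) (pullback.fst y g) t := by
  refine IsPullback.of_right (h₁₂ := pullback.snd y g) (v₁₃ := g) (h₂₂ := y) ?_ (pmap_fst t h)
    (IsPullback.of_hasPullback y g).flip
  rw [pmap_snd, h]
  exact (IsPullback.of_hasPullback y' g).flip

variable (D : SchDD g)

/-- An invariant section of a descent datum over `y`. -/
structure IsInvSec {T : Scheme.{u}} (y : T ⟶ S) (w : pullback y g ⟶ D.obj.left) : Prop where
  hom : w ≫ D.obj.hom = pullback.snd y g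
  inv : ∀ {T' : Scheme.{u}} (a b : T' ⟶ pullback y g), a ≫ pullback.fst y g = b ≫ pullback.fst y g →
    ∀ h : (b ≫ pullback.snd y g) ≫ g = (a ≫ w) ≫ D.obj.hom ≫ g,
      pullback.lift (b ≫ pullback.snd y g) (a ≫ w) h ≫ θ D = b ≫ w

variable {D}

theorem IsInvSec.pull {T T' : Scheme.{u}} {y : T ⟶ S} {y' : T' ⟶ S} {w : pullback y g ⟶ D.obj.left}
    (hw : IsInvSec D y w) (t : T' ⟶ T) (h : t ≫ y = y') : IsInvSec D y' (pmap t h ≫ w) := by
  refine ⟨by rw [Category.assoc, hw.hom, pmap_snd], fun a b e hh => ?_⟩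
  have hcond : ((b ≫ pmap t h) ≫ pullback.snd y g) ≫ g = ((a ≫ pmap t h) ≫ w) ≫ D.obj.hom ≫ g := by
    simpa using hh
  have := hw.inv (a ≫ pmap t h) (b ≫ pmap t h) (by simp [reassoc_of% e]) hcond
  simpa using this

variable {S₁ : Scheme.{u}}

variable (D) in
/-- `U₁` with the universal section `w` represents the invariant sections of `D` over `S₁`. -/
structure IsRep (p : S₁ ⟶ S) (U₁ : Over S₁) (w : pullback (U₁.hom ≫ p) g ⟶ D.obj.left) : Prop where
  isInvSec : IsInvSec D (U₁.hom ≫ p) w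
  existsUnique : ∀ {T : Scheme.{u}} (x : T ⟶ S₁) {y : T ⟶ S} (hy : x ≫ p = y)
    (w' : pullback y g ⟶ D.obj.left), IsInvSec D y w' →
    ∃! v : T ⟶ U₁.left, ∃ hv : v ≫ U₁.hom = x, pmap v (by rw [← Category.assoc, hv, hy]) ≫ w = w'

theorem IsRep.ext {p : S₁ ⟶ S} {U₁ : Over S₁} {w : pullback (U₁.hom ≫ p) g ⟶ D.obj.left} (R : IsRep D p U₁ w)
    {T : Scheme.{u}} {v v' : T ⟶ U₁.left} (hh : v ≫ U₁.hom = v' ≫ U₁.hom) {y : T ⟶ S}
    (hy : v ≫ U₁.hom ≫ p = y) (hy' : v' ≫ U₁.hom ≫ p = y) (e : pmap v hy ≫ w = pmap v' hy' ≫ w) : v = v' := by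
  obtain ⟨v₀, -, huniq⟩ := R.existsUnique (v ≫ U₁.hom) (by rw [Category.assoc, hy]) _ (R.isInvSec.pull v hy)
  exact (huniq v ⟨rfl, rfl⟩).trans (huniq v' ⟨hh.symm, e.symm⟩).symm

/-- An étale quotient of the pulled back datum represents the invariant sections. -/
theorem exists_isRep_of_isQuot (hg : SGA1.UnivSubmersive g) {p : S₁ ⟶ S}
    (hsq : pullback.fst g p ≫ g = pullback.snd g p ≫ p) {U₁ : Over S₁} [Etale U₁.hom]
    {π₁ : (pullDD hsq D).obj.left ⟶ U₁.left} (hπ : IsQuot (pullDD hsq D) U₁ π₁) :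
    ∃ w, IsRep D p U₁ w := by
  let E := pullDD hsq D
  let g₁ := pullback.snd g p
  let q := pullback.fst g p
  let dV : E.obj.left ⟶ D.obj.left := pullback.fst D.obj.hom q
  have hg₁ : SGA1.UnivSubmersive g₁ :=
    MorphismProperty.of_isPullback (P := SGA1.UnivSubmersive) (IsPullback.of_hasPullback g p) hg
  have hEhom : ∀ {T : Scheme.{u}} (v : T ⟶ E.obj.left), (v ≫ dV) ≫ D.obj.hom = (v ≫ E.obj.hom) ≫ q := by
    intro T v
    simp only [Category.assoc, dV, E, pullDD_hom, pullback.condition]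
    rfl
  have hact : ∀ {T : Scheme.{u}} (x : T ⟶ pullback g p) (v : T ⟶ E.obj.left)
      (h : x ≫ g₁ = v ≫ E.obj.hom ≫ g₁) (h' : (x ≫ q) ≫ g = (v ≫ dV) ≫ D.obj.hom ≫ g),
      (pullback.lift x v h ≫ θ E) ≫ dV = pullback.lift (x ≫ q) (v ≫ dV) h' ≫ θ D := by
    intro T x v h h'
    rw [Category.assoc]
    show pullback.lift x v h ≫ θ (pullDD hsq D) ≫ pullback.fst D.obj.hom q = _
    rw [θ_pullDD_fst, ← Category.assoc]
    refine congrArg (· ≫ θ D) ?_
    apply pullback.hom_ext
    · simp only [Category.assoc, srcPull_fst, pullback.lift_fst]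
      exact pullback.lift_fst_assoc _ _ _ _
    · simp only [Category.assoc, srcPull_snd, pullback.lift_snd]
      exact pullback.lift_snd_assoc _ _ _ _
  let y₁ := U₁.hom ≫ p
  let s₁ : pullback y₁ g ⟶ pullback g p := pullback.lift (pullback.snd y₁ g) (pullback.fst y₁ g ≫ U₁.hom)
    (by rw [← pullback.condition, Category.assoc])
  let e₁ : pullback y₁ g ⟶ E.obj.left :=
    hπ.isPullback.lift (pullback.fst y₁ g) s₁ (pullback.lift_snd _ _ _).symm
  have he₁π : e₁ ≫ π₁ = pullback.fst y₁ g := hπ.isPullback.lift_fst _ _ _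
  have he₁h : e₁ ≫ E.obj.hom = s₁ := hπ.isPullback.lift_snd _ _ _
  have hinv : IsInvSec D y₁ (e₁ ≫ dV) := by
    refine ⟨?_, fun a b e hh => ?_⟩
    · rw [hEhom, he₁h]
      exact pullback.lift_fst _ _ _
    · have key := hπ.lift_θ_eq (a ≫ e₁) (b ≫ e₁) (by simp only [Category.assoc, he₁π, e])
      have key' := congrArg (· ≫ dV) key
      have hs : ((b ≫ e₁) ≫ E.obj.hom) ≫ q = b ≫ pullback.snd y₁ g := by
        rw [Category.assoc, Category.assoc, ← Category.assoc e₁, he₁h]
        exact congrArg (b ≫ ·) (pullback.lift_fst _ _ _)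
      rw [hact _ _ _ (by rw [hs]; simpa [Category.assoc] using hh)] at key'
      refine Eq.trans (congrArg (· ≫ θ D) ?_) (key'.trans (Category.assoc _ _ _))
      apply pullback.hom_ext
      · simp only [pullback.lift_fst]
        exact hs.symm
      · simp only [pullback.lift_snd, Category.assoc]
  refine ⟨e₁ ≫ dV, hinv, ?_⟩
  intro T x y hy w' hw'
  subst hy
  let z : pullback x g₁ ⟶ pullback (x ≫ p) g :=
    pullback.lift (pullback.fst x g₁) (pullback.snd x g₁ ≫ q) (by
      rw [Category.assoc, hsq, pullback.condition_assoc])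
  have hz : z ≫ pullback.snd (x ≫ p) g = pullback.snd x g₁ ≫ q := pullback.lift_snd _ _ _
  have hz' : z ≫ pullback.fst (x ≫ p) g = pullback.fst x g₁ := pullback.lift_fst _ _ _
  let ez : pullback x g₁ ⟶ E.obj.left := pullback.lift (z ≫ w') (pullback.snd x g₁) (by
    rw [Category.assoc, hw'.hom, hz])
  have hezd : ez ≫ dV = z ≫ w' := pullback.lift_fst _ _ _
  have hezh : ez ≫ E.obj.hom = pullback.snd x g₁ := pullback.lift_snd _ _ _
  have hb : (ez ≫ π₁) ≫ U₁.hom = pullback.fst x g₁ ≫ x := by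
    rw [Category.assoc, hπ.isPullback.w, ← Category.assoc, hezh, pullback.condition]
  obtain ⟨v, ⟨hv, hvb⟩, huniq⟩ := Sga84.existsUnique_desc_etale g₁ hg₁ x U₁.hom (ez ≫ π₁) hb
    fun {T'} a b e => by
      have hc : (b ≫ pullback.snd x g₁) ≫ g₁ = (a ≫ ez) ≫ E.obj.hom ≫ g₁ := by
        rw [Category.assoc, Category.assoc, ← Category.assoc ez, hezh, ← pullback.condition, reassoc_of% e]
      have key : pullback.lift (b ≫ pullback.snd x g₁) (a ≫ ez) hc ≫ θ E = b ≫ ez := by
        apply pullback.hom_ext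
        · show (_ ≫ θ E) ≫ dV = (b ≫ ez) ≫ dV
          have hh : ((b ≫ z) ≫ pullback.snd (x ≫ p) g) ≫ g = ((a ≫ z) ≫ w') ≫ D.obj.hom ≫ g := by
            have hw'' : w' ≫ D.obj.hom ≫ g = pullback.snd (x ≫ p) g ≫ g := by rw [← Category.assoc, hw'.hom]
            simp only [Category.assoc, hw'']
            rw [← pullback.condition, reassoc_of% hz', reassoc_of% e]
          rw [Category.assoc b, hezd, ← Category.assoc b, ← hw'.inv (a ≫ z) (b ≫ z) (by
            simp only [Category.assoc, hz', e]) hh, hact _ _ _ (by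
            simpa only [Category.assoc, hz, hezd] using hh)]
          refine congrArg (· ≫ θ D) ?_
          apply pullback.hom_ext
          · simp only [pullback.lift_fst, Category.assoc, hz]
          · simp only [pullback.lift_snd, Category.assoc, hezd]
        · show (_ ≫ θ E) ≫ E.obj.hom = (b ≫ ez) ≫ E.obj.hom
          rw [Category.assoc, Category.assoc, θ_hom, hezh, pullback.lift_fst]
      rw [← Category.assoc b, ← key, Category.assoc _ (θ E), hπ.invariant, pullback.lift_snd_assoc, Category.assoc]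
  let k : pullback (x ≫ p) g ⟶ pullback x g₁ := pullback.lift (pullback.fst (x ≫ p) g)
    (pullback.lift (pullback.snd (x ≫ p) g) (pullback.fst (x ≫ p) g ≫ x)
      (by rw [← pullback.condition, Category.assoc])) (pullback.lift_snd _ _ _).symm
  have hkz : k ≫ z = 𝟙 _ := by
    apply pullback.hom_ext
    · rw [Category.assoc, hz', pullback.lift_fst, Category.id_comp]
    · rw [Category.assoc, hz, pullback.lift_snd_assoc, pullback.lift_fst, Category.id_comp]
  refine ⟨v, ⟨hv, ?_⟩, fun v' ⟨hv', hw''⟩ => huniq v' ⟨hv', ?_⟩⟩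
  · have hke : pmap v (by rw [← Category.assoc, hv]) ≫ e₁ = k ≫ ez := by
      apply hπ.isPullback.hom_ext
      · refine ((Category.assoc _ _ _).trans ((congrArg (_ ≫ ·) he₁π).trans (pmap_fst _ _))).trans ?_
        refine Eq.trans ?_ ((Category.assoc _ _ _).trans (congrArg (k ≫ ·) hvb)).symm
        exact (pullback.lift_fst_assoc _ _ _ _).symm
      · refine ((Category.assoc _ _ _).trans (congrArg (_ ≫ ·) he₁h)).trans ?_
        refine Eq.trans ?_ ((Category.assoc _ _ _).trans (congrArg (k ≫ ·) hezh)).symm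
        refine Eq.trans ?_ (pullback.lift_snd _ _ _).symm
        apply pullback.hom_ext
        · simp [s₁, y₁]
        · simp [s₁, y₁, hv]
    rw [← Category.assoc, hke, Category.assoc, hezd, reassoc_of% hkz]
  · have hke : z ≫ pmap v' (by rw [← Category.assoc, hv']) ≫ e₁ = ez := by
      apply pullback.hom_ext
      · show (z ≫ _ ≫ e₁) ≫ dV = ez ≫ dV
        rw [hezd, Category.assoc, Category.assoc, hw'']
      · show (z ≫ _ ≫ e₁) ≫ E.obj.hom = ez ≫ E.obj.hom
        rw [hezh, Category.assoc, Category.assoc, he₁h]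
        apply pullback.hom_ext
        · simp [s₁, y₁, hz, q]
        · simp [s₁, y₁, reassoc_of% hz', hv', pullback.condition, g₁]
    rw [← hke, Category.assoc, Category.assoc, he₁π, pmap_fst, reassoc_of% hz']

/-- A scheme representing the invariant sections over the base itself is a quotient. -/
theorem exists_isQuot_of_isRep {U : Over S} {w : pullback (U.hom ≫ 𝟙 S) g ⟶ D.obj.left}
    (R : IsRep D (𝟙 S) U w) : ∃ π : D.obj.left ⟶ U.left, IsQuot D U π := by
  let y := D.obj.hom ≫ g
  let τ : pullback y g ⟶ D.obj.left :=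
    pullback.lift (pullback.snd y g) (pullback.fst y g) pullback.condition.symm ≫ θ D
  have hτhom : τ ≫ D.obj.hom = pullback.snd y g := by
    rw [Category.assoc, θ_hom, pullback.lift_fst]
  have hτ : IsInvSec D y τ := by
    refine ⟨hτhom, fun {T'} a b e hh => ?_⟩
    have h₁ : (a ≫ pullback.snd y g) ≫ g = (a ≫ pullback.fst y g) ≫ D.obj.hom ≫ g := by
      rw [Category.assoc, Category.assoc, ← pullback.condition]
    have h₂ : (b ≫ pullback.snd y g) ≫ g = (a ≫ pullback.fst y g) ≫ D.obj.hom ≫ g := by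
      rw [e, Category.assoc, Category.assoc, ← pullback.condition]
    have key := lift_θ_trans D (a ≫ pullback.fst y g) (a ≫ pullback.snd y g) (b ≫ pullback.snd y g) h₁ h₂
    refine Eq.trans ?_ (key.trans ?_)
    · refine congrArg (· ≫ θ D) ?_
      apply pullback.hom_ext
      · simp
      · simp only [pullback.lift_snd]
        exact comp_lift_θ D a _ _ _
    · rw [comp_lift_θ D b]
      refine congrArg (· ≫ θ D) ?_
      apply pullback.hom_ext <;> simp [e]
  obtain ⟨π, ⟨hπ, hπw⟩, -⟩ := R.existsUnique y (Category.comp_id y) τ hτ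
  refine ⟨π, ?_, ?_⟩
  · let m : D.obj.left ⟶ pullback U.hom g := pullback.lift π D.obj.hom hπ
    let w₀ : pullback U.hom g ⟶ D.obj.left :=
      pmap (y := U.hom ≫ 𝟙 S) (y' := U.hom) (𝟙 _) (by simp) ≫ w
    have hw₀hom : w₀ ≫ D.obj.hom = pullback.snd U.hom g := by
      rw [Category.assoc, R.isInvSec.hom, pmap_snd]
    have h1 : m ≫ w₀ = 𝟙 _ := by
      have hd : m ≫ pmap (y := U.hom ≫ 𝟙 S) (y' := U.hom) (𝟙 _) (by simp) =
          pullback.lift (𝟙 _) D.obj.hom (by simp [y]) ≫
            pmap π (show π ≫ U.hom ≫ 𝟙 S = y by rw [Category.comp_id, hπ]) := by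
        apply pullback.hom_ext <;> simp [m] <;> exact (Category.id_comp _).symm
      rw [← Category.assoc, hd, Category.assoc, hπw]
      refine Eq.trans ?_ (diag_θ D)
      refine (comp_lift_θ D _ _ _ _).trans (congrArg (· ≫ θ D) ?_)
      apply pullback.hom_ext <;> simp
    have h2 : w₀ ≫ m = 𝟙 _ := by
      apply pullback.hom_ext
      · rw [Category.assoc, pullback.lift_fst, Category.id_comp]
        let yU := w₀ ≫ y
        have e1 : (w₀ ≫ π) ≫ U.hom ≫ 𝟙 S = yU := by rw [Category.comp_id, Category.assoc, hπ]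
        have e2 : pullback.fst U.hom g ≫ U.hom ≫ 𝟙 S = yU := by
          rw [Category.comp_id, pullback.condition, ← hw₀hom, Category.assoc]
        refine R.ext ?_ e1 e2 ?_
        · simpa using e1.trans e2.symm
        · rw [← pmap_pmap π (show π ≫ U.hom ≫ 𝟙 S = y by rw [Category.comp_id, hπ]) w₀ rfl, Category.assoc, hπw]
          let a : pullback yU g ⟶ pullback (U.hom ≫ 𝟙 S) g :=
            pullback.fst yU g ≫ pmap (y := U.hom ≫ 𝟙 S) (y' := U.hom) (𝟙 _) (by simp)
          have hh : (pmap (pullback.fst U.hom g) e2 ≫ pullback.snd (U.hom ≫ 𝟙 S) g) ≫ g =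
              (a ≫ w) ≫ D.obj.hom ≫ g := by
            rw [pmap_snd, ← pullback.condition]
            simp only [a, yU, w₀, y, Category.assoc]
          have := R.isInvSec.inv a (pmap (pullback.fst U.hom g) e2) (by simp [a]) hh
          rw [← this]
          refine (comp_lift_θ D _ _ _ _).trans (congrArg (· ≫ θ D) ?_)
          apply pullback.hom_ext <;> simp [a, w₀] <;> rfl
      · rw [Category.assoc, pullback.lift_snd, hw₀hom, Category.id_comp]
    have : IsIso m := ⟨w₀, h1, h2⟩
    exact IsPullback.of_iso_pullback ⟨hπ⟩ (asIso m) (by simp [m]) (by simp [m])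
  · show θ D ≫ π = pullback.snd g y ≫ π
    let yΘ := θ D ≫ y
    have e1 : (θ D ≫ π) ≫ U.hom ≫ 𝟙 S = yΘ := by rw [Category.comp_id, Category.assoc, hπ]
    have e2 : (pullback.snd g y ≫ π) ≫ U.hom ≫ 𝟙 S = yΘ := by
      rw [Category.comp_id, Category.assoc, hπ, ← pullback.condition]
      exact (θ_hom_assoc D g).symm
    refine R.ext ?_ e1 e2 ?_
    · simpa using e1.trans e2.symm
    · have hπ' : π ≫ U.hom ≫ 𝟙 S = y := by rw [Category.comp_id, hπ]
      have e3 : pullback.snd g y ≫ y = yΘ := by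
        rw [← pullback.condition]
        exact (θ_hom_assoc D g).symm
      rw [← pmap_pmap π hπ' (θ D) rfl, ← pmap_pmap π hπ' (pullback.snd g y) e3, Category.assoc, Category.assoc, hπw]
      have h₁ : (pullback.fst yΘ g ≫ pullback.fst g y) ≫ g =
          (pullback.fst yΘ g ≫ pullback.snd g y) ≫ D.obj.hom ≫ g := by
        rw [Category.assoc, Category.assoc, pullback.condition]
      have h₂ : pullback.snd yΘ g ≫ g = (pullback.fst yΘ g ≫ pullback.snd g y) ≫ D.obj.hom ≫ g := by
        rw [← pullback.condition, Category.assoc, ← e3]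
      have key := lift_θ_trans D (pullback.fst yΘ g ≫ pullback.snd g y) (pullback.fst yΘ g ≫ pullback.fst g y)
        (pullback.snd yΘ g) h₁ h₂
      refine Eq.trans ?_ (key.trans ?_)
      · refine (comp_lift_θ D _ _ _ _).trans (congrArg (· ≫ θ D) ?_)
        apply pullback.hom_ext
        · simp only [pullback.lift_fst, pmap_snd]
          rfl
        · simp only [pullback.lift_snd, pmap_fst]
          refine congrArg (· ≫ θ D) ?_
          apply pullback.hom_ext <;> simp [y] <;> rfl
      · refine ((comp_lift_θ D _ _ _ _).trans (congrArg (· ≫ θ D) ?_)).symm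
        apply pullback.hom_ext <;> simp

end Groth.Agent.Eff84
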