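import Groth.Agent.Eff84.QuotAt
import Groth.Agent.Eff84.LimStage
import Groth.Agent.LimTop61.StalkLimit
import Groth.Agent.S0591
import Groth.Agent.S9192

/-!
# Effectivity over a local scheme spreads out to a neighbourhood
-/

set_option autoImplicit false
set_option backward.isDefEq.respectTransparency false
set_option backward.defeqAttrib.useBackward true
universe u

open CategoryTheory Limits AlgebraicGeometry

namespace Groth.Agent.Eff84

open Desc Groth.Agent.Desc59

variable {S' S T : Scheme.{u}} {g : S' ⟶ S} {X : Scheme.{u}}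

theorem assoc_cond (x : X ⟶ S) (p : T ⟶ S) :
    (pullback.fst (pullback.fst x g ≫ x) p ≫ pullback.fst x g) ≫ x =
      pullback.snd (pullback.fst x g ≫ x) p ≫ p := by
  rw [Category.assoc]; exact pullback.condition

/-- `(X ×_S S') ×_S T ⟶ X ×_S T`. -/
noncomputable def assocMap (x : X ⟶ S) (p : T ⟶ S) :
    pullback (pullback.fst x g ≫ x) p ⟶ pullback x p :=
  pullback.lift (pullback.fst _ p ≫ pullback.fst x g) (pullback.snd _ p) (assoc_cond x p)

theorem isPullback_assocMap (x : X ⟶ S) (p : T ⟶ S) :
    IsPullback (assocMap (g := g) x p) (pullback.fst _ p ≫ pullback.snd x g) (pullback.snd x p ≫ p) g := by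
  have h1 : IsPullback (pullback.fst (pullback.fst x g ≫ x) p) (assocMap (g := g) x p)
      (pullback.fst x g) (pullback.fst x p) := by
    refine IsPullback.of_bot (h₃₁ := p) (v₂₁ := pullback.snd x p) (v₂₂ := x) ?_ (pullback.lift_fst _ _ _).symm
      (IsPullback.of_hasPullback x p)
    rw [show assocMap (g := g) x p ≫ pullback.snd x p = pullback.snd _ p from pullback.lift_snd _ _ _]
    exact IsPullback.of_hasPullback _ p
  have := h1.flip.paste_vert (IsPullback.of_hasPullback x g)
  rwa [pullback.condition (f := x) (g := p)] at this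

variable {D : SchDD g}

theorem quot_cond {x : X ⟶ S} {p : T ⟶ S} (π : pullback (dY D) p ⟶ pullback x p)
    (hπ : π ≫ pullback.snd x p = pullback.snd (dY D) p) :
    (π ≫ pullback.fst x p) ≫ x = (pullback.fst (dY D) p ≫ D.obj.hom) ≫ g := by
  rw [Category.assoc, pullback.condition, reassoc_of% hπ, ← pullback.condition, Category.assoc]

theorem comp_cond {x : X ⟶ S} {p : T ⟶ S} (π : pullback (dY D) p ⟶ pullback x p)
    (hπ : π ≫ pullback.snd x p = pullback.snd (dY D) p) :
    pullback.lift (π ≫ pullback.fst x p) (pullback.fst (dY D) p ≫ D.obj.hom) (quot_cond π hπ) ≫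
      pullback.fst x g ≫ x = pullback.snd (dY D) p ≫ p := by
  rw [pullback.lift_fst_assoc, quot_cond π hπ, Category.assoc]
  exact pullback.condition

/-- The comparison with the base change of a candidate quotient. -/
noncomputable def compar {x : X ⟶ S} {p : T ⟶ S} (π : pullback (dY D) p ⟶ pullback x p)
    (hπ : π ≫ pullback.snd x p = pullback.snd (dY D) p) :
    pullback (dY D) p ⟶ pullback (pullback.fst x g ≫ x) p :=
  pullback.lift (pullback.lift _ _ (quot_cond π hπ)) (pullback.snd _ _) (comp_cond π hπ)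

section
variable {x : X ⟶ S} {p : T ⟶ S} (π : pullback (dY D) p ⟶ pullback x p)
  (hπ : π ≫ pullback.snd x p = pullback.snd (dY D) p)

theorem compar_assocMap : compar π hπ ≫ assocMap x p = π := by
  apply pullback.hom_ext <;> simp [compar, assocMap, hπ]

theorem compar_fst_snd :
    compar π hπ ≫ pullback.fst _ p ≫ pullback.snd x g = pullback.fst (dY D) p ≫ D.obj.hom := by
  simp [compar]

theorem compar_snd : compar π hπ ≫ pullback.snd _ p = pullback.snd (dY D) p := pullback.lift_snd _ _ _

theorem cart_iff_isIso_compar :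
    IsPullback π (pullback.fst (dY D) p ≫ D.obj.hom) (pullback.snd x p ≫ p) g ↔ IsIso (compar π hπ) := by
  refine ⟨fun h => ?_, fun _ => ?_⟩
  · have : compar π hπ = (h.isoIsPullback _ _ (isPullback_assocMap x p)).hom := by
      apply (isPullback_assocMap x p).hom_ext
      · rw [IsPullback.isoIsPullback_hom_fst, compar_assocMap]
      · rw [IsPullback.isoIsPullback_hom_snd, compar_fst_snd]
    rw [this]; infer_instance
  · exact IsPullback.of_iso (isPullback_assocMap x p) (asIso (compar π hπ)).symm (Iso.refl _) (Iso.refl _)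
      (Iso.refl _) (by simp [compar_assocMap]) (by simp [compar_fst_snd]) (by simp) (by simp)

end

theorem goodAt_dY {I : Type u} [SmallCategory I] {F : I ⥤ Scheme.{u}} (p : F ⟶ (Functor.const I).obj S) (i : I)
    [CompactSpace ↥(F.obj i)] [QuasiSeparatedSpace ↥(F.obj i)]
    (x : X ⟶ S) [LocallyOfFinitePresentation x] [QuasiCompact x] [QuasiSeparated x] : GoodAt F p x i :=
  ⟨inferInstanceAs (LocallyOfFinitePresentation (pullback.snd x (p.app i))),
    QuasiCompact.compactSpace_of_compactSpace (pullback.snd x (p.app i)),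
    quasiSeparatedSpace_of_quasiSeparated (pullback.snd x (p.app i))⟩

/-- Effectivity over the spectrum of a local ring spreads out to an affine neighbourhood. -/
theorem exists_effAt_nhd (hg : SGA1.UnivSubmersive g) [LocallyOfFinitePresentation g] [QuasiCompact g]
    [QuasiSeparated g] [Etale D.obj.hom] [QuasiCompact D.obj.hom] [QuasiSeparated D.obj.hom] (a : S)
    (h : EffAt D (S.fromSpecStalk a)) : ∃ W : S.Opens, a ∈ W ∧ EffAt D W.ι := by
  obtain ⟨U, π, hetU, Q⟩ := h
  let F := LimTop61.nhdSpec S a
  let c := LimTop61.nhdCone S a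
  have hc : IsLimit c := LimTop61.isLimitNhdCone S a
  let p := LimTop61.nhdι S a
  let h : c.pt ⟶ S := S.fromSpecStalk a
  have hh : ∀ i, c.π.app i ≫ p.app i = h := LimTop61.nhdCone_π_ι S a
  have hpm : ∀ i, Mono (p.app i) := fun i => by
    have : IsOpenImmersion (p.app i) := IsAffineOpen.isOpenImmersion_fromSpec _
    infer_instance
  have : ∀ i, CompactSpace ↥(F.obj i) := fun i => inferInstanceAs (CompactSpace ↥(Spec _))
  have : ∀ i, QuasiSeparatedSpace ↥(F.obj i) := fun i => inferInstanceAs (QuasiSeparatedSpace ↥(Spec _))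
  have : CompactSpace ↥c.pt := inferInstanceAs (CompactSpace ↥(Spec _))
  have : QuasiSeparatedSpace ↥c.pt := inferInstanceAs (QuasiSeparatedSpace ↥(Spec _))
  let U' : Over c.pt := U
  have : QuasiCompact (dY D) := inferInstance
  have : CompactSpace ↥(pullback (dY D) h) := QuasiCompact.compactSpace_of_compactSpace (pullback.snd (dY D) h)
  have : QuasiSeparatedSpace ↥(pullback (dY D) h) := quasiSeparatedSpace_of_quasiSeparated (pullback.snd (dY D) h)
  have hπs : Surjective π := MorphismProperty.of_isPullback (P := @Surjective) Q.cart.flip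
    ⟨(MorphismProperty.universally_le _ _ hg).surjective⟩
  have hπq : QuasiCompact π := MorphismProperty.of_isPullback (P := @QuasiCompact) Q.cart.flip inferInstance
  have : CompactSpace ↥U.left := Function.Surjective.compactSpace π.continuous π.surjective
  have : QuasiSeparatedSpace ↥U.left := ⟨fun A B hA hA' hB hB' => by
    rw [← Set.image_preimage_eq (A ∩ B) π.surjective, Set.preimage_inter]
    refine IsCompact.image ?_ π.continuous
    exact QuasiSeparatedSpace.inter_isCompact _ _ (hA.preimage π.continuous)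
      (QuasiCompact.isCompact_preimage A hA hA') (hB.preimage π.continuous) (QuasiCompact.isCompact_preimage B hB hB')⟩
  have : CompactSpace ↥U'.left := ‹CompactSpace ↥U.left›
  have : QuasiSeparatedSpace ↥U'.left := ‹QuasiSeparatedSpace ↥U.left›
  have : QuasiCompact U'.hom := inferInstance
  have : QuasiSeparated U'.hom := inferInstance
  have : Etale U'.hom := hetU
  obtain ⟨i, Ui, ui, qU, hlfp, hqc, hqs, hU⟩ := S0591.result F c hc U'.left U'.hom
  have := hpm i
  let xU := ui ≫ p.app i
  -- the candidate at the limit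
  have hcq : qU ≫ xU = U'.hom ≫ h := by rw [← hh i, reassoc_of% hU.w]
  let einv : pullback xU h ⟶ U'.left := hU.lift (pullback.fst xU h) (pullback.snd xU h) (by
    rw [← cancel_mono (p.app i), Category.assoc, Category.assoc, hh i]; exact pullback.condition)
  let e : U'.left ≅ pullback xU h :=
    ⟨pullback.lift qU U'.hom hcq, einv, hU.hom_ext (by simp [einv]) (by simp [einv]),
      pullback.hom_ext (by simp [einv]) (by simp [einv])⟩
  have he : e.hom ≫ pullback.snd xU h = U'.hom := pullback.lift_snd _ _ _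
  -- good stages
  have hfst : IsIso (pullback.fst xU (p.app i)) :=
    ⟨pullback.lift (𝟙 Ui) ui (by simp [xU]), by
      apply pullback.hom_ext
      · simp
      · rw [← cancel_mono (p.app i)]
        simp [xU, ← pullback.condition], pullback.lift_fst _ _ _⟩
  have hsnd : pullback.snd xU (p.app i) = pullback.fst xU (p.app i) ≫ ui := by
    rw [← cancel_mono (p.app i), ← pullback.condition, Category.assoc]
  have : LocallyOfFinitePresentation (pullback.snd xU (p.app i)) := by rw [hsnd]; infer_instance
  have : QuasiCompact (pullback.snd xU (p.app i)) := by rw [hsnd]; infer_instance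
  have : QuasiSeparated (pullback.snd xU (p.app i)) := by rw [hsnd]; infer_instance
  have GU : GoodAt F p xU i := ⟨inferInstance,
    QuasiCompact.compactSpace_of_compactSpace (pullback.snd xU (p.app i)),
    quasiSeparatedSpace_of_quasiSeparated (pullback.snd xU (p.app i))⟩
  have GP : GoodAt F p (pullback.fst xU g ≫ xU) i := by
    have hb : IsPullback (pullback.fst (pullback.fst xU g ≫ xU) (p.app i) ≫ pullback.snd xU g)
        (assocMap xU (p.app i)) g (pullback.snd xU (p.app i) ≫ p.app i) :=
      (isPullback_assocMap xU (p.app i)).flip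
    let t := assocMap (g := g) xU (p.app i)
    have : LocallyOfFinitePresentation t := MorphismProperty.of_isPullback hb inferInstance
    have : QuasiCompact t := MorphismProperty.of_isPullback hb inferInstance
    have : QuasiSeparated t := MorphismProperty.of_isPullback hb inferInstance
    have ht : t ≫ pullback.snd xU (p.app i) = pullback.snd (pullback.fst xU g ≫ xU) (p.app i) :=
      pullback.lift_snd _ _ _
    refine ⟨ht ▸ inferInstance, ?_, ?_⟩
    · exact QuasiCompact.compactSpace_of_compactSpace (t ≫ pullback.snd xU (p.app i))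
    · exact quasiSeparatedSpace_of_quasiSeparated (t ≫ pullback.snd xU (p.app i))
  have GY : GoodAt F p (dY D) i := goodAt_dY p i (dY D)
  have GR : GoodAt F p (rY D) i := goodAt_dY p i (rY D)
  -- étaleness
  obtain ⟨j₁, φ₁, het₁⟩ : ∃ (j : _) (φ : j ⟶ i), Etale (pullback.snd xU (p.app j)) := by
    have : Etale (pullback.snd xU h) := by
      have := e.isIso_inv
      rw [show pullback.snd xU h = e.inv ≫ U'.hom by rw [← he, e.inv_hom_id_assoc], MorphismProperty.cancel_left_of_respectsIso (P := @Etale)]
      exact hetU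
    have := GU.compact
    have := GU.qs
    obtain ⟨j, φ, Xi, Yi, fi, gi, pY, pX, hYi, hXi, hfi⟩ := S9192.result F c hc i
      (pullback.snd xU (p.app i)) (𝟙 _) (pullback.snd xU h) (𝟙 _) (c.π.app i) (lp F c p hh xU i)
      (IsPullback.of_vert_isIso ⟨(Category.comp_id _).trans (Category.id_comp _).symm⟩)
      (isPullback_lp F c p hh xU i)
    have hgi : IsIso gi := MorphismProperty.of_isPullback (P := MorphismProperty.isomorphisms _) hYi
      (inferInstanceAs (IsIso (𝟙 (F.obj i))))
    have hX : IsPullback pX (fi ≫ gi) (pullback.snd xU (p.app i)) (F.map φ) := by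
      simpa using hXi.paste_vert hYi
    refine ⟨j, φ, ?_⟩
    rw [← (isPullback_tr F p xU φ).isoIsPullback_hom_snd _ _ hX]
    infer_instance
  -- the map
  obtain ⟨j₂, φ₂, π₂, hπ₂, hlim⟩ := exists_hom F c p hh hc (GY.map F p φ₁) (GU.map F p φ₁)
    (π ≫ e.hom : pullback (dY D) h ⟶ pullback xU h) ((Category.assoc _ _ _).trans ((congrArg (π ≫ ·) he).trans Q.w))
  have GY₂ := (GY.map F p φ₁).map F p φ₂
  have GR₂ := (GR.map F p φ₁).map F p φ₂
  have GU₂ := (GU.map F p φ₁).map F p φ₂
  have GP₂ := (GP.map F p φ₁).map F p φ₂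
  have hwe : (π ≫ e.hom : pullback (dY D) h ⟶ pullback xU h) ≫ pullback.snd xU h = pullback.snd (dY D) h :=
    (Category.assoc _ _ _).trans ((congrArg (π ≫ ·) he).trans Q.w)
  have hIso : IsIso (compar (π ≫ e.hom : pullback (dY D) h ⟶ pullback xU h) hwe) := by
    rw [← cart_iff_isIso_compar]
    exact IsPullback.of_iso Q.cart (Iso.refl _) e (Iso.refl _) (Iso.refl _)
      (Category.id_comp _).symm (by simp; rfl) ((Category.comp_id _).trans ((congrArg (· ≫ h) he).symm.trans (Category.assoc _ _ _))) (by simp)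
  obtain ⟨j₃, φ₃, hiso₃⟩ := exists_isIso F c p hh hc GY₂ GP₂ (compar π₂ hπ₂) (compar_snd _ _)
    (compar (π ≫ e.hom : pullback (dY D) h ⟶ pullback xU h) hwe) (compar_snd _ _) (by
      have hfstl := congrArg (fun k => k ≫ pullback.fst xU (p.app j₂)) hlim
      simp only [Category.assoc, lp_fst] at hfstl
      apply pullback.hom_ext
      · simp only [Category.assoc, compar, pullback.lift_fst, lp_fst]
        apply pullback.hom_ext
        · simp only [Category.assoc, pullback.lift_fst]
          exact hfstl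
        · simp only [Category.assoc, pullback.lift_snd, lp_fst_assoc]
      · simp only [Category.assoc, compar, pullback.lift_snd, lp_snd, pullback.lift_snd_assoc])
  let π₃ := bc F p φ₃ π₂ hπ₂
  have GY₃ := GY₂.map F p φ₃
  have GR₃ := GR₂.map F p φ₃
  have GU₃ := GU₂.map F p φ₃
  have hb₁ : ∀ (f : src D ⟶ D.obj.left) (hf : f ≫ dY D = rY D),
      lp F c p hh (rY D) j₃ ≫ bcS f hf (p.app j₃) = bcS f hf h ≫ lp F c p hh (dY D) j₃ := fun f hf => by
    apply pullback.hom_ext
    · simp [bcS]
    · simp [bcS]
  have hlim₃ : lp F c p hh (dY D) j₃ ≫ π₃ = (π ≫ e.hom : pullback (dY D) h ⟶ pullback xU h) ≫ lp F c p hh xU j₃ := by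
    apply pullback.hom_ext
    · simp only [Category.assoc, π₃, bc_fst, lp_fst, lp_tr_assoc]
      rw [reassoc_of% hlim, lp_fst]
    · simp only [Category.assoc, π₃, bc_snd, lp_snd, reassoc_of% hwe]
  have hinvh : bcS (θ D) (θ_dY D) h ≫ π = bcS (pullback.snd g (dY D)) rfl h ≫ π := Q.inv
  obtain ⟨j₄, φ₄, hinv₄⟩ := exists_eq F c p hh GR₃ GU₃ hc (bcS (θ D) (θ_dY D) (p.app j₃) ≫ π₃)
    (bcS (pullback.snd g (dY D)) rfl (p.app j₃) ≫ π₃)
    (by simp [π₃, bcS]) (by simp [π₃, bcS]) (by
      rw [reassoc_of% (hb₁ (θ D) (θ_dY D)), reassoc_of% (hb₁ (pullback.snd g (dY D)) rfl), hlim₃]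
      simp only [← Category.assoc]
      rw [hinvh])
  let π₄ := bc F p φ₄ π₃ (bc_snd F p φ₃ π₂ hπ₂)
  have hπ₄ : π₄ ≫ pullback.snd xU (p.app j₄) = pullback.snd (dY D) (p.app j₄) := bc_snd _ _ _ _ _
  have hiso₄ : IsIso (compar π₄ hπ₄) := by
    let m₃ := bc F p φ₃ (compar π₂ hπ₂) (compar_snd _ _)
    have hm₃ : m₃ ≫ pullback.snd _ (p.app j₃) = pullback.snd (dY D) (p.app j₃) := bc_snd _ _ _ _ _
    have hinvm : inv m₃ ≫ pullback.snd (dY D) (p.app j₃) = pullback.snd _ (p.app j₃) := by
      rw [IsIso.inv_comp_eq, hm₃]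
    have e₄ : compar π₄ hπ₄ = bc F p φ₄ m₃ hm₃ := by
      apply pullback.hom_ext
      · simp only [compar, pullback.lift_fst, bc_fst, m₃]
        apply pullback.hom_ext
        · simp only [Category.assoc, pullback.lift_fst, π₄, π₃, bc_fst]
        · simp only [Category.assoc, pullback.lift_snd, tr_fst_assoc]
      · simp [compar]
    rw [e₄]
    refine ⟨bc F p φ₄ (inv m₃) hinvm, ?_, ?_⟩
    · apply pullback.hom_ext
      · simp only [Category.assoc, bc_fst, Category.id_comp]
        rw [bc_tr_assoc, IsIso.hom_inv_id_assoc, tr_fst]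
      · simp
    · apply pullback.hom_ext
      · simp only [Category.assoc, bc_fst, Category.id_comp]
        rw [bc_tr_assoc, IsIso.inv_hom_id_assoc, tr_fst]
      · simp
  have hQ : QuotAt D (p.app j₄) (Over.mk (pullback.snd xU (p.app j₄))) π₄ := by
    refine ⟨hπ₄, (cart_iff_isIso_compar π₄ hπ₄).mpr hiso₄, ?_⟩
    apply pullback.hom_ext
    · have h4 := congrArg (fun k => k ≫ pullback.fst xU (p.app j₃)) hinv₄
      have hb₂ : ∀ (f : src D ⟶ D.obj.left) (hf : f ≫ dY D = rY D),
          tr F p (rY D) φ₄ ≫ bcS f hf (p.app j₃) = bcS f hf (p.app j₄) ≫ tr F p (dY D) φ₄ := fun f hf => by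
        apply pullback.hom_ext
        · simp [bcS]
        · simp [bcS]
      rw [reassoc_of% (hb₂ (θ D) (θ_dY D)), reassoc_of% (hb₂ (pullback.snd g (dY D)) rfl)] at h4
      simpa only [Category.assoc, π₄, bc_fst] using h4
    · simp [π₄, bcS]
  have het₄ : Etale (pullback.snd xU (p.app j₄)) :=
    MorphismProperty.of_isPullback (P := @Etale) (isPullback_tr F p xU (φ₄ ≫ φ₃ ≫ φ₂)) het₁
  let W := (OrderDual.ofDual j₄.unop).1
  refine ⟨W.1, (OrderDual.ofDual j₄.unop).2, ?_⟩
  exact EffAt.comp (show EffAt D (p.app j₄) from ⟨Over.mk (pullback.snd xU (p.app j₄)), π₄, het₄, hQ⟩) W.2.isoSpec.hom W.2.isoSpec_hom_fromSpec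

end Groth.Agent.Eff84

namespace Groth.Agent.Eff84

open Desc Groth.Agent.Desc59

variable {S' S T : Scheme.{u}} {g : S' ⟶ S}

/-- Effectivity of the pulled back family datum in terms of quotients over the base change. -/
theorem exists_fam_iff_effAt (D : SchDDFam (fun _ : PUnit.{1} => g)) (p : T ⟶ S) :
    (∃ U : Over T, Etale U.hom ∧ Nonempty ((toDDFam (fun _ : PUnit.{1} => pullback.snd g p)).obj U ≅
      (pullDDFam (f := fun _ : PUnit.{1} => g) (f' := fun _ : PUnit.{1} => pullback.snd g p)
        (α := id) (p := p) (p' := fun _ => pullback.fst g p) (fun _ => pullback.condition)).obj D)) ↔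
      EffAt ((SchDDFam.toSchDD g).obj D) p :=
  (exists_congr fun U => and_congr_right fun _ => nonempty_fam_iff (g := pullback.snd g p) U _).trans
    (effAt_iff (D := (SchDDFam.toSchDD g).obj D) (p := p) pullback.condition).symm

end Groth.Agent.Eff84
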